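import Mathlib.RingTheory.PowerSeries.Substitution
import Mathlib.RingTheory.PowerSeries.Trunc
import Mathlib.Algebra.MvPolynomial.CommRing
import Mathlib.RingTheory.MvPolynomial.Basic
import Mathlib.Algebra.Polynomial.AlgebraMap
import Mathlib.Algebra.MvPolynomial.Basic

/-!
# Coefficients of substitutions of sums and of variables in two-variable polynomials and series
-/

set_option maxHeartbeats 400000

universe u

namespace Groth.Agent.GaLib

variable {A : Type u} [CommRing A]

/-- The exponent of `X₀ ^ i * X₁ ^ j`. -/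
noncomputable def pr (i j : ℕ) : Fin 2 →₀ ℕ := Finsupp.single 0 i + Finsupp.single 1 j

@[simp] theorem pr_zero (i j : ℕ) : pr i j 0 = i := by simp [pr]

@[simp] theorem pr_one (i j : ℕ) : pr i j 1 = j := by simp [pr]

theorem pr_eta (d : Fin 2 →₀ ℕ) : pr (d 0) (d 1) = d := by
  refine Finsupp.ext fun k => ?_
  fin_cases k <;> simp [pr]

theorem pr_inj {i j k l : ℕ} : pr i j = pr k l ↔ i = k ∧ j = l :=
  ⟨fun h => ⟨by simpa using DFunLike.congr_fun h 0, by simpa using DFunLike.congr_fun h 1⟩,
    fun ⟨a, b⟩ => a ▸ b ▸ rfl⟩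

theorem monomial_pr (i j : ℕ) :
    (MvPolynomial.monomial (pr i j) 1 : MvPolynomial (Fin 2) A) = MvPolynomial.X 0 ^ i * MvPolynomial.X 1 ^ j := by
  rw [MvPolynomial.X_pow_eq_monomial, MvPolynomial.X_pow_eq_monomial, MvPolynomial.monomial_mul, one_mul, pr]

theorem coeff_X0_add_X1_pow (n i j : ℕ) :
    MvPolynomial.coeff (pr i j) ((MvPolynomial.X 0 + MvPolynomial.X 1 : MvPolynomial (Fin 2) A) ^ n) =
      if n = i + j then ((n.choose i : ℕ) : A) else 0 := by
  classical
  rw [add_pow, MvPolynomial.coeff_sum]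
  simp_rw [← monomial_pr, mul_comm (MvPolynomial.monomial _ (1 : A)), ← map_natCast (MvPolynomial.C : A →+* MvPolynomial (Fin 2) A),
    MvPolynomial.coeff_C_mul, MvPolynomial.coeff_monomial, pr_inj, mul_ite, mul_one, mul_zero]
  split_ifs with h
  · subst h
    rw [Finset.sum_eq_single i]
    · rw [if_pos ⟨rfl, by omega⟩]
    · intro b _ hb; rw [if_neg fun e => hb e.1]
    · intro hb; exact absurd (Finset.mem_range.2 (by omega)) hb
  · refine Finset.sum_eq_zero fun b hb => if_neg fun e => h ?_
    rw [Finset.mem_range] at hb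
    omega

/-- Coefficients of `f(X₀ + X₁)`. -/
theorem coeff_aeval_add (f : Polynomial A) (i j : ℕ) :
    MvPolynomial.coeff (pr i j) (Polynomial.aeval (MvPolynomial.X 0 + MvPolynomial.X 1 : MvPolynomial (Fin 2) A) f) =
      ((i + j).choose i : A) * f.coeff (i + j) := by
  induction f using Polynomial.induction_on' with
  | add p q hp hq => rw [map_add, MvPolynomial.coeff_add, hp, hq, Polynomial.coeff_add, mul_add]
  | monomial n a =>
    rw [Polynomial.aeval_monomial, MvPolynomial.algebraMap_eq, MvPolynomial.coeff_C_mul, coeff_X0_add_X1_pow,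
      Polynomial.coeff_monomial]
    split_ifs with h
    · subst h; ring
    · simp

/-- Coefficients of `f(X₀) * g(X₁)`. -/
theorem coeff_aeval_mul_aeval (f g : Polynomial A) (i j : ℕ) :
    MvPolynomial.coeff (pr i j) (Polynomial.aeval (MvPolynomial.X 0 : MvPolynomial (Fin 2) A) f *
        Polynomial.aeval (MvPolynomial.X 1 : MvPolynomial (Fin 2) A) g) = f.coeff i * g.coeff j := by
  classical
  induction f using Polynomial.induction_on' with
  | add p q hp hq => rw [map_add, add_mul, MvPolynomial.coeff_add, hp, hq, Polynomial.coeff_add, add_mul]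
  | monomial n a =>
    induction g using Polynomial.induction_on' with
    | add p q hp hq => rw [map_add, mul_add, MvPolynomial.coeff_add, hp, hq, Polynomial.coeff_add, mul_add]
    | monomial m b =>
      rw [Polynomial.aeval_monomial, Polynomial.aeval_monomial, MvPolynomial.algebraMap_eq, mul_mul_mul_comm,
        ← map_mul, MvPolynomial.coeff_C_mul, ← monomial_pr, MvPolynomial.coeff_monomial, Polynomial.coeff_monomial,
        Polynomial.coeff_monomial]
      simp only [pr_inj]
      by_cases h1 : n = i <;> by_cases h2 : m = j <;> simp [h1, h2]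

theorem coeff_aeval_X0 (f : Polynomial A) (i j : ℕ) :
    MvPolynomial.coeff (pr i j) (Polynomial.aeval (MvPolynomial.X 0 : MvPolynomial (Fin 2) A) f) =
      if j = 0 then f.coeff i else 0 := by
  have := coeff_aeval_mul_aeval f 1 i j
  rw [map_one, mul_one, Polynomial.coeff_one] at this
  rw [this]; split_ifs <;> simp

theorem coeff_aeval_X1 (f : Polynomial A) (i j : ℕ) :
    MvPolynomial.coeff (pr i j) (Polynomial.aeval (MvPolynomial.X 1 : MvPolynomial (Fin 2) A) f) =
      if i = 0 then f.coeff j else 0 := by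
  have := coeff_aeval_mul_aeval 1 f i j
  rw [map_one, one_mul, Polynomial.coeff_one] at this
  rw [this]; split_ifs <;> simp

theorem mvPolynomial_ext_pr {F G : MvPolynomial (Fin 2) A}
    (h : ∀ i j, MvPolynomial.coeff (pr i j) F = MvPolynomial.coeff (pr i j) G) : F = G :=
  MvPolynomial.ext _ _ fun d => by rw [← pr_eta d]; exact h _ _

theorem mvPowerSeries_ext_pr {F G : MvPowerSeries (Fin 2) A}
    (h : ∀ i j, MvPowerSeries.coeff (pr i j) F = MvPowerSeries.coeff (pr i j) G) : F = G :=
  MvPowerSeries.ext fun d => by rw [← pr_eta d]; exact h _ _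

/-- Coefficients of `χ(X₀ + X₁)`. -/
theorem coeff_subst_add (χ : PowerSeries A) (i j : ℕ) :
    MvPowerSeries.coeff (pr i j) (PowerSeries.subst (MvPowerSeries.X 0 + MvPowerSeries.X 1 : MvPowerSeries (Fin 2) A) χ) =
      ((i + j).choose i : A) * PowerSeries.coeff (i + j) χ := by
  have hc : ∀ d : ℕ, MvPowerSeries.coeff (pr i j) ((MvPowerSeries.X 0 + MvPowerSeries.X 1 : MvPowerSeries (Fin 2) A) ^ d) =
      if d = i + j then ((d.choose i : ℕ) : A) else 0 := fun d => by
    rw [← coeff_X0_add_X1_pow, ← MvPolynomial.coeff_coe]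
    simp
  rw [PowerSeries.coeff_subst (PowerSeries.HasSubst.of_constantCoeff_zero (by simp)), finsum_eq_single _ (i + j)]
  · rw [hc, if_pos rfl, smul_eq_mul, mul_comm]
  · intro d hd
    rw [hc, if_neg hd, smul_zero]

theorem coeff_subst_X (χ : PowerSeries A) (s : Fin 2) (d : Fin 2 →₀ ℕ) :
    MvPowerSeries.coeff d (PowerSeries.subst (MvPowerSeries.X s : MvPowerSeries (Fin 2) A) χ) =
      if d = Finsupp.single s (d s) then PowerSeries.coeff (d s) χ else 0 := by
  classical
  rw [PowerSeries.coeff_subst (PowerSeries.HasSubst.of_constantCoeff_zero (by simp)), finsum_eq_single _ (d s)]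
  · rw [MvPowerSeries.coeff_X_pow]
    split_ifs <;> simp
  · intro n hn
    rw [MvPowerSeries.coeff_X_pow, if_neg, smul_zero]
    rintro rfl
    simp at hn

/-- Coefficients of `χ(X₀) * ψ(X₁)`. -/
theorem coeff_subst_mul_subst (χ ψ : PowerSeries A) (i j : ℕ) :
    MvPowerSeries.coeff (pr i j) (PowerSeries.subst (MvPowerSeries.X 0 : MvPowerSeries (Fin 2) A) χ *
        PowerSeries.subst (MvPowerSeries.X 1 : MvPowerSeries (Fin 2) A) ψ) =
      PowerSeries.coeff i χ * PowerSeries.coeff j ψ := by
  classical
  rw [MvPowerSeries.coeff_mul, Finset.sum_eq_single (Finsupp.single 0 i, Finsupp.single 1 j)]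
  · simp [coeff_subst_X]
  · rintro ⟨a, b⟩ hab hne
    rw [coeff_subst_X, coeff_subst_X]
    split_ifs with ha hb <;> try simp
    refine absurd ?_ hne
    rw [Finset.mem_antidiagonal] at hab
    dsimp only at ha hb hab ⊢
    have h0 : a 0 = i := by
      have := DFunLike.congr_fun hab 0
      rw [hb] at this
      simpa using this
    have h1 : b 1 = j := by
      have := DFunLike.congr_fun hab 1
      rw [ha] at this
      simpa using this
    rw [ha, hb, h0, h1]
  · intro h
    exact absurd (Finset.mem_antidiagonal.2 (by rw [pr])) h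

end Groth.Agent.GaLib
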