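import Mathlib.Data.Nat.Choose.Lucas
import Mathlib.Algebra.CharP.Basic
import Mathlib.Algebra.CharP.Invertible
import Mathlib.Algebra.CharP.Lemmas
import Mathlib.Data.Nat.Prime.Factorial

/-!
# Binomial coefficients in characteristic `p`
-/

set_option maxHeartbeats 400000

universe u

namespace Groth.Agent.GaLib

variable (p : ℕ) [hp : Fact p.Prime] (A : Type u) [CommRing A] [CharP A p]

theorem natCast_choose_digit (n k : ℕ) :
    ((n.choose k : ℕ) : A) = (((n % p).choose (k % p) : ℕ) : A) * (((n / p).choose (k / p) : ℕ) : A) := by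
  rw [← Nat.cast_mul, CharP.natCast_eq_natCast A p]
  exact Choose.choose_modEq_choose_mod_mul_choose_div_nat

theorem natCast_choose_block (v x y r s : ℕ) (hr : r < p ^ v) (hs : s < p ^ v) :
    (((x * p ^ v + r).choose (y * p ^ v + s) : ℕ) : A) = ((x.choose y : ℕ) : A) * ((r.choose s : ℕ) : A) := by
  induction v generalizing r s with
  | zero =>
    obtain rfl : r = 0 := by simpa using hr
    obtain rfl : s = 0 := by simpa using hs
    simp
  | succ v ih =>
    have hp0 : 0 < p := hp.out.pos
    have e : ∀ a b : ℕ, (a * p ^ (v + 1) + b) % p = b % p ∧ (a * p ^ (v + 1) + b) / p = a * p ^ v + b / p := by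
      intro a b
      rw [pow_succ, ← mul_assoc, mul_comm _ p]
      exact ⟨Nat.mul_add_mod _ _ _, Nat.mul_add_div hp0 _ _⟩
    rw [natCast_choose_digit p A, (e x r).1, (e x r).2, (e y s).1, (e y s).2,
      ih (r / p) (s / p) (Nat.div_lt_of_lt_mul (by rwa [pow_succ'] at hr)) (Nat.div_lt_of_lt_mul (by rwa [pow_succ'] at hs)),
      natCast_choose_digit p A r s]
    ring

theorem natCast_ne_zero_of_lt {n : ℕ} (h0 : 0 < n) (hn : n < p) : IsUnit ((n : ℕ) : A) := by
  rw [CharP.isUnit_natCast_iff hp.out]
  exact Nat.not_dvd_of_pos_of_lt h0 hn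

theorem isUnit_natCast_factorial {n : ℕ} (hn : n < p) : IsUnit ((n.factorial : ℕ) : A) := by
  rw [CharP.isUnit_natCast_iff hp.out, (hp.out : p.Prime).dvd_factorial]
  exact not_le.2 hn

theorem choose_mul_pow_pow {v q : ℕ} : (((q * p ^ v).choose (p ^ v) : ℕ) : A) = (q : A) := by
  have := natCast_choose_block p A v q 1 0 0 (pow_pos hp.out.pos v) (pow_pos hp.out.pos v)
  simpa using this

theorem choose_block_low {v q r : ℕ} (hr : r < p ^ v) : (((q * p ^ v + r).choose r : ℕ) : A) = 1 := by
  have := natCast_choose_block p A v q 0 r r hr hr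
  simpa using this

end Groth.Agent.GaLib
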