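import Groth.Agent.GaLib.Coeff
import Groth.Agent.GaLib.Binom
import Mathlib.Algebra.Polynomial.BigOperators
import Mathlib.Algebra.Polynomial.Expand
import Mathlib.Tactic.LinearCombination
import Mathlib.Tactic.Ring

/-!
# Characters of the additive group in characteristic `p`
-/

set_option maxHeartbeats 400000

universe u

open Polynomial

namespace Groth.Agent.GaLib

variable {A : Type u} [CommRing A]

/-- The coefficient form of `χ(X+Y) = χ(X)χ(Y)`, in degrees below `n` in each variable. -/
def CharBelow (n : ℕ) (c : ℕ → A) : Prop :=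
  c 0 = 1 ∧ ∀ i j, i < n → j < n → ((i + j).choose i : A) * c (i + j) = c i * c j

theorem aeval_add_eq_mul_iff (f : A[X]) :
    Polynomial.aeval (MvPolynomial.X 0 + MvPolynomial.X 1 : MvPolynomial (Fin 2) A) f =
        Polynomial.aeval (MvPolynomial.X 0 : MvPolynomial (Fin 2) A) f *
          Polynomial.aeval (MvPolynomial.X 1 : MvPolynomial (Fin 2) A) f ↔
      ∀ i j, ((i + j).choose i : A) * f.coeff (i + j) = f.coeff i * f.coeff j :=
  ⟨fun h i j => by rw [← coeff_aeval_add, h, coeff_aeval_mul_aeval],
    fun h => mvPolynomial_ext_pr fun i j => by rw [coeff_aeval_add, coeff_aeval_mul_aeval, h]⟩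

theorem subst_add_eq_mul_iff (χ : PowerSeries A) :
    PowerSeries.subst (MvPowerSeries.X 0 + MvPowerSeries.X 1 : MvPowerSeries (Fin 2) A) χ =
        PowerSeries.subst (MvPowerSeries.X 0 : MvPowerSeries (Fin 2) A) χ *
          PowerSeries.subst (MvPowerSeries.X 1 : MvPowerSeries (Fin 2) A) χ ↔
      ∀ i j, ((i + j).choose i : A) * PowerSeries.coeff (i + j) χ = PowerSeries.coeff i χ * PowerSeries.coeff j χ :=
  ⟨fun h i j => by rw [← coeff_subst_add, h, coeff_subst_mul_subst],
    fun h => mvPowerSeries_ext_pr fun i j => by rw [coeff_subst_add, coeff_subst_mul_subst, h]⟩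

variable (p : ℕ) [hp : Fact p.Prime] [CharP A p]

/-- The truncated exponential `∑_{j<p} a^j X^{j p^n}/j!`. -/
noncomputable def expp (a : A) (n : ℕ) : A[X] :=
  ∑ j ∈ Finset.range p, C (Ring.inverse (j.factorial : A) * a ^ j) * X ^ (j * p ^ n)

theorem coeff_expp_zero (a : A) (m : ℕ) :
    (expp p a 0).coeff m = if m < p then Ring.inverse (m.factorial : A) * a ^ m else 0 := by
  simp only [expp, pow_zero, mul_one, Polynomial.finsetSum_coeff, Polynomial.coeff_C_mul_X_pow, Finset.sum_ite_eq, Finset.mem_range]

theorem expp_eq_expand (a : A) (n : ℕ) : expp p a n = Polynomial.expand A (p ^ n) (expp p a 0) := by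
  simp [expp, map_sum, ← pow_mul, mul_comm]

theorem coeff_expp_mul (a : A) (n j : ℕ) : (expp p a n).coeff (j * p ^ n) = (expp p a 0).coeff j := by
  rw [expp_eq_expand, Polynomial.coeff_expand_mul (pow_pos hp.out.pos n)]

theorem eval_zero_expp (a : A) (n : ℕ) : (expp p a n).eval 0 = 1 := by
  rw [← Polynomial.coeff_zero_eq_eval_zero, ← zero_mul (p ^ n), coeff_expp_mul, coeff_expp_zero, if_pos hp.out.pos]
  simp

theorem expp_add (a : A) (ha : a ^ p = 0) (n : ℕ) :
    Polynomial.aeval (MvPolynomial.X 0 + MvPolynomial.X 1 : MvPolynomial (Fin 2) A) (expp p a n) =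
        Polynomial.aeval (MvPolynomial.X 0 : MvPolynomial (Fin 2) A) (expp p a n) *
          Polynomial.aeval (MvPolynomial.X 1 : MvPolynomial (Fin 2) A) (expp p a n) := by
  have h0 : Polynomial.aeval (MvPolynomial.X 0 + MvPolynomial.X 1 : MvPolynomial (Fin 2) A) (expp p a 0) =
        Polynomial.aeval (MvPolynomial.X 0 : MvPolynomial (Fin 2) A) (expp p a 0) *
          Polynomial.aeval (MvPolynomial.X 1 : MvPolynomial (Fin 2) A) (expp p a 0) := by
    rw [aeval_add_eq_mul_iff]
    intro i j
    simp only [coeff_expp_zero]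
    by_cases h : i + j < p
    · rw [if_pos h, if_pos (by omega), if_pos (by omega)]
      have e : ((i + j).factorial : A) = ((i + j).choose i : A) * ((i.factorial : A) * (j.factorial : A)) := by
        rw [← Nat.cast_mul, ← Nat.cast_mul, ← mul_assoc, Nat.choose_symm_add, Nat.add_choose_mul_factorial_mul_factorial]
      have u1 := isUnit_natCast_factorial p A (n := i + j) h
      have u2 := isUnit_natCast_factorial p A (n := i) (by omega)
      have u3 := isUnit_natCast_factorial p A (n := j) (by omega)
      refine u1.mul_left_cancel ((u2.mul u3).mul_left_cancel ?_)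
      linear_combination
        ((i.factorial : A) * (j.factorial : A) * ((i + j).choose i : A) * a ^ (i + j)) * Ring.mul_inverse_cancel _ u1
        - ((i + j).factorial : A) * a ^ (i + j) * ((j.factorial : A) * Ring.inverse (j.factorial : A)) * Ring.mul_inverse_cancel _ u2
        - ((i + j).factorial : A) * a ^ (i + j) * Ring.mul_inverse_cancel _ u3
        - a ^ (i + j) * e
    · rw [if_neg h, mul_zero]
      split_ifs <;> try simp
      rw [mul_mul_mul_comm, ← pow_add, pow_eq_zero_of_le (by omega) ha, mul_zero]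
  have hexp : ∀ z : MvPolynomial (Fin 2) A, Polynomial.aeval z (expp p a n) = Polynomial.aeval (z ^ p ^ n) (expp p a 0) :=
    fun z => by rw [expp_eq_expand, Polynomial.expand_aeval]
  rw [hexp, hexp, hexp, add_pow_char_pow]
  have := congrArg (MvPolynomial.aeval (R := A)
    ![(MvPolynomial.X 0 : MvPolynomial (Fin 2) A) ^ p ^ n, MvPolynomial.X 1 ^ p ^ n]) h0
  simpa [← Polynomial.aeval_algHom_apply] using this

/-- The product of the first `m` truncated exponentials. -/
noncomputable def charProd (a : ℕ → A) (m : ℕ) : A[X] := ∏ k ∈ Finset.range m, expp p (a k) k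

theorem charProd_isChar (a : ℕ → A) (ha : ∀ k, a k ^ p = 0) (m : ℕ) :
    (charProd p a m).eval 0 = 1 ∧
    Polynomial.aeval (MvPolynomial.X 0 + MvPolynomial.X 1 : MvPolynomial (Fin 2) A) (charProd p a m) =
        Polynomial.aeval (MvPolynomial.X 0 : MvPolynomial (Fin 2) A) (charProd p a m) *
          Polynomial.aeval (MvPolynomial.X 1 : MvPolynomial (Fin 2) A) (charProd p a m) := by
  constructor
  · simp [charProd, Polynomial.eval_prod, eval_zero_expp]
  · simp only [charProd, map_prod, ← Finset.prod_mul_distrib]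
    exact Finset.prod_congr rfl fun k _ => expp_add p _ (ha k) k

theorem coeff_charProd_eq_zero (a : ℕ → A) (m : ℕ) {i : ℕ} (hi : p ^ m ≤ i) : (charProd p a m).coeff i = 0 := by
  refine Polynomial.coeff_eq_zero_of_natDegree_lt (lt_of_lt_of_le ?_ hi)
  have key : ∀ m, (charProd p a m).natDegree + 1 ≤ p ^ m := by
    intro m
    induction m with
    | zero => simp [charProd]
    | succ m ih =>
      have h1 : (expp p (a m) m).natDegree ≤ (p - 1) * p ^ m := by
        refine Polynomial.natDegree_sum_le_of_forall_le _ _ fun j hj => (Polynomial.natDegree_C_mul_X_pow_le _ _).trans ?_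
        exact Nat.mul_le_mul_right _ (Nat.le_sub_one_of_lt (Finset.mem_range.1 hj))
      have h2 : charProd p a (m + 1) = charProd p a m * expp p (a m) m := Finset.prod_range_succ _ _
      have h3 : (p - 1) * p ^ m + p ^ m = p ^ (m + 1) := by
        rw [← Nat.succ_mul, Nat.succ_eq_add_one, Nat.sub_add_cancel hp.out.one_le, pow_succ']
      rw [h2]
      have := Polynomial.natDegree_mul_le (p := charProd p a m) (q := expp p (a m) m)
      omega
  exact key m

theorem coeff_charProd_succ (a : ℕ → A) (m q r : ℕ) (hq : q < p) (hr : r < p ^ m) :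
    (charProd p a (m + 1)).coeff (q * p ^ m + r) =
      Ring.inverse (q.factorial : A) * a m ^ q * (charProd p a m).coeff r := by
  rw [charProd, Finset.prod_range_succ, ← charProd]
  conv_lhs => rw [expp]
  simp only [Finset.mul_sum, Polynomial.finsetSum_coeff]
  rw [Finset.sum_eq_single q]
  · rw [mul_left_comm, Polynomial.coeff_C_mul, Polynomial.coeff_mul_X_pow', if_pos (Nat.le_add_right _ _),
      Nat.add_sub_cancel_left]
  · intro j _ hj
    rw [mul_left_comm, Polynomial.coeff_C_mul, Polynomial.coeff_mul_X_pow']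
    split_ifs with h
    · rw [coeff_charProd_eq_zero p a m ?_, mul_zero]
      have : j * p ^ m < (q + 1) * p ^ m := by rw [Nat.succ_mul]; omega
      have hjq : j < q := by
        have := Nat.lt_of_mul_lt_mul_right this
        omega
      have := Nat.mul_le_mul_right (p ^ m) (Nat.succ_le_of_lt hjq)
      rw [Nat.succ_mul] at this
      omega
    · simp
  · intro h; exact absurd (Finset.mem_range.2 hq) h

/-- A character below `p ^ N` is a product of truncated exponentials. -/
theorem CharBelow.exists_prod {N : ℕ} {c : ℕ → A} (h : CharBelow (p ^ N) c) :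
    (∀ k < N, c (p ^ k) ^ p = 0) ∧
      ∀ i < p ^ N, (charProd p (fun k => c (p ^ k)) N).coeff i = c i := by
  have hP := hp.out.pos
  -- coefficients at multiples of a power of `p`
  have hmul : ∀ k < N, ∀ q < p, ((q.factorial : ℕ) : A) * c (q * p ^ k) = c (p ^ k) ^ q := by
    intro k hk q
    induction q with
    | zero => intro _; simp [h.1]
    | succ q ih =>
      intro hq
      have h1 : q * p ^ k < p ^ N := by
        calc q * p ^ k < p * p ^ k := Nat.mul_lt_mul_of_pos_right (by omega) (pow_pos hP k)
          _ = p ^ (k + 1) := (pow_succ' p k).symm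
          _ ≤ p ^ N := Nat.pow_le_pow_right hP hk
      have h2 := h.2 (p ^ k) (q * p ^ k) (Nat.pow_lt_pow_right hp.out.one_lt hk) h1
      rw [show p ^ k + q * p ^ k = (q + 1) * p ^ k by ring, choose_mul_pow_pow p A] at h2
      rw [Nat.factorial_succ, Nat.cast_mul, pow_succ', ← ih (by omega)]
      linear_combination ((q.factorial : ℕ) : A) * h2
  refine ⟨fun k hk => ?_, ?_⟩
  · have hq : p - 1 < p := by omega
    have h1 : (p - 1) * p ^ k < p ^ N := by
      calc (p - 1) * p ^ k < p * p ^ k := Nat.mul_lt_mul_of_pos_right (by omega) (pow_pos hP k)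
        _ = p ^ (k + 1) := (pow_succ' p k).symm
        _ ≤ p ^ N := Nat.pow_le_pow_right hP hk
    have h2 := h.2 (p ^ k) ((p - 1) * p ^ k) (Nat.pow_lt_pow_right hp.out.one_lt hk) h1
    rw [show p ^ k + (p - 1) * p ^ k = p * p ^ k by rw [add_comm, ← Nat.succ_mul, Nat.succ_eq_add_one, Nat.sub_add_cancel hp.out.one_le],
      choose_mul_pow_pow p A, CharP.cast_eq_zero, zero_mul] at h2
    rw [show c (p ^ k) ^ p = c (p ^ k) * c (p ^ k) ^ (p - 1) by rw [← pow_succ', Nat.sub_add_cancel hp.out.one_le],
      ← hmul k hk _ hq, mul_left_comm, ← h2, mul_zero]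
  · suffices ∀ m ≤ N, ∀ i < p ^ m, (charProd p (fun k => c (p ^ k)) m).coeff i = c i from this N le_rfl
    intro m
    induction m with
    | zero => intro _ i hi; obtain rfl : i = 0 := by simpa using hi
              simp [charProd, h.1]
    | succ m ih =>
      intro hm i hi
      have hr : i % p ^ m < p ^ m := Nat.mod_lt _ (pow_pos hP m)
      have hq : i / p ^ m < p := Nat.div_lt_of_lt_mul (by rwa [← pow_succ])
      have hi' : i = (i / p ^ m) * p ^ m + i % p ^ m := by rw [mul_comm]; exact (Nat.div_add_mod i _).symm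
      generalize i / p ^ m = q at hq hi'
      generalize i % p ^ m = r at hr hi'
      subst hi'
      rw [coeff_charProd_succ p _ _ _ _ hq hr, ih (by omega) r hr]
      have hle : p ^ (m + 1) ≤ p ^ N := Nat.pow_le_pow_right hP hm
      have h2 := h.2 r (q * p ^ m) (by omega) (by omega)
      rw [add_comm r, choose_block_low p A hr, one_mul] at h2
      rw [h2, ← hmul m hm q hq, ← mul_assoc, Ring.inverse_mul_cancel _ (isUnit_natCast_factorial p A hq), one_mul, mul_comm]

end Groth.Agent.GaLib
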