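import Groth.Agent.GaLib.Cocycle
import Mathlib.Data.Nat.Choose.Vandermonde
import Mathlib.NumberTheory.Wilson
import Mathlib.Data.Rat.Lemmas
import Mathlib.RingTheory.Nilpotent.Basic
import Mathlib.RingTheory.Ideal.Quotient.Operations
import Mathlib.RingTheory.Polynomial.Basic
import Mathlib.Tactic

/-!
# The Artin–Hasse exponential up to degree `2p`
-/

set_option maxHeartbeats 400000

universe u

open Polynomial

namespace Groth.Agent.GaLib

variable (p : ℕ) [hp : Fact p.Prime]

/-- The coefficients of `exp (T + T^p/p)` below degree `2p`. -/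
def ahCoeff (n : ℕ) : ℚ :=
  1 / (n.factorial : ℚ) + if p ≤ n then 1 / ((p : ℚ) * ((n - p).factorial : ℚ)) else 0

/-- Rationals whose denominator is prime to `p`. -/
def intSubring : Subring ℚ where
  carrier := {x | ¬ p ∣ x.den}
  mul_mem' {x y} hx hy h := (hp.out.dvd_mul.1 (h.trans (Rat.mul_den_dvd x y))).elim hx hy
  add_mem' {x y} hx hy h := (hp.out.dvd_mul.1 (h.trans (Rat.add_den_dvd x y))).elim hx hy
  one_mem' := by simp [hp.out.ne_one]
  zero_mem' := by simp [hp.out.ne_one]
  neg_mem' {x} hx := by simpa using hx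

theorem mem_intSubring_of_mul_eq {x : ℚ} {a : ℤ} {b : ℕ} (hb : ¬ p ∣ b) (h : x * b = a) : x ∈ intSubring p := by
  intro hd
  have hb0 : (b : ℚ) ≠ 0 := by
    intro h0; exact hb ((Nat.cast_eq_zero.1 h0) ▸ dvd_zero p)
  have : x = (a : ℚ) / ((b : ℤ) : ℚ) := by rw [Int.cast_natCast, eq_div_iff hb0, h]
  rw [this] at hd
  have h2 : ((a : ℚ) / ((b : ℤ) : ℚ)).den ∣ b := by
    have := Rat.den_dvd a (b : ℤ)
    rw [← Rat.divInt_eq_div]
    exact Int.natCast_dvd_natCast.1 this
  exact hb (hd.trans h2)

variable (A : Type u) [CommRing A] [CharP A p]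

/-- Reduction of rationals with denominator prime to `p`. -/
noncomputable def intHom : intSubring p →+* A where
  toFun x := ((x : ℚ).num : A) * Ring.inverse (((x : ℚ).den : ℕ) : A)
  map_one' := by simp
  map_zero' := by simp
  map_mul' := by
    rintro ⟨x, hx⟩ ⟨y, hy⟩
    have ux : IsUnit ((x.den : ℕ) : A) := (CharP.isUnit_natCast_iff hp.out).2 hx
    have uy : IsUnit ((y.den : ℕ) : A) := (CharP.isUnit_natCast_iff hp.out).2 hy
    have uxy : IsUnit (((x * y).den : ℕ) : A) := (CharP.isUnit_natCast_iff hp.out).2 (mul_mem (s := intSubring p) hx hy)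
    have key := congrArg (Int.cast : ℤ → A) (Rat.mul_num_den' x y)
    push_cast at key
    show ((x * y).num : A) * _ = _
    refine uxy.mul_right_cancel (ux.mul_right_cancel (uy.mul_right_cancel ?_))
    linear_combination key + ((x * y).num * x.den * y.den : A) * Ring.inverse_mul_cancel _ uxy -
      (x.num * y.num * (x * y).den : A) * ((Ring.inverse (y.den : A) * y.den) * Ring.inverse_mul_cancel _ ux + Ring.inverse_mul_cancel _ uy)
  map_add' := by
    rintro ⟨x, hx⟩ ⟨y, hy⟩
    have ux : IsUnit ((x.den : ℕ) : A) := (CharP.isUnit_natCast_iff hp.out).2 hx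
    have uy : IsUnit ((y.den : ℕ) : A) := (CharP.isUnit_natCast_iff hp.out).2 hy
    have uxy : IsUnit (((x + y).den : ℕ) : A) := (CharP.isUnit_natCast_iff hp.out).2 (add_mem (s := intSubring p) hx hy)
    have key := congrArg (Int.cast : ℤ → A) (Rat.add_num_den' x y)
    push_cast at key
    show ((x + y).num : A) * _ = _
    refine uxy.mul_right_cancel (ux.mul_right_cancel (uy.mul_right_cancel ?_))
    linear_combination key + ((x + y).num * x.den * y.den : A) * Ring.inverse_mul_cancel _ uxy -
      (x.num * y.den * (x + y).den : A) * Ring.inverse_mul_cancel _ ux -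
      (y.num * x.den * (x + y).den : A) * Ring.inverse_mul_cancel _ uy

theorem exists_factorial_eq (m : ℕ) (hm : m < p) :
    ∃ B : ℕ, (p + m).factorial = p * B ∧ (B : ZMod p) = -(m.factorial : ZMod p) := by
  induction m with
  | zero =>
    refine ⟨(p - 1).factorial, ?_, by simpa using ZMod.wilsons_lemma p⟩
    rw [add_zero, ← Nat.mul_factorial_pred hp.out.ne_zero]
  | succ m ih =>
    obtain ⟨B, h1, h2⟩ := ih (by omega)
    refine ⟨(p + m + 1) * B, by rw [← add_assoc, Nat.factorial_succ, h1]; ring, ?_⟩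
    rw [Nat.cast_mul, h2, Nat.factorial_succ]
    push_cast
    rw [ZMod.natCast_self]
    ring

theorem ahCoeff_mem {n : ℕ} (hn : n < 2 * p) : ahCoeff p n ∈ intSubring p := by
  by_cases h : p ≤ n
  · obtain ⟨m, rfl⟩ : ∃ m, n = p + m := ⟨n - p, by omega⟩
    obtain ⟨B, h1, h2⟩ := exists_factorial_eq p m (by omega)
    obtain ⟨M, hM⟩ : p ∣ m.factorial + B := by
      rw [← ZMod.natCast_eq_zero_iff]
      push_cast
      rw [h2]; ring
    have hB : ¬ p ∣ B := by
      rw [← ZMod.natCast_eq_zero_iff, h2, neg_eq_zero, ZMod.natCast_eq_zero_iff, hp.out.dvd_factorial]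
      omega
    refine mem_intSubring_of_mul_eq p (a := M) (b := B * m.factorial) ?_ ?_
    · rw [hp.out.dvd_mul, hp.out.dvd_factorial]; rintro (h | h) <;> [exact hB h; omega]
    · have hM' : (m.factorial : ℚ) + B = p * M := by exact_mod_cast hM
      have h1' : ((p + m).factorial : ℚ) = p * B := by exact_mod_cast h1
      have : (B : ℚ) ≠ 0 := Nat.cast_ne_zero.2 fun h => hB (h ▸ dvd_zero p)
      have : (p : ℚ) ≠ 0 := Nat.cast_ne_zero.2 hp.out.ne_zero
      have : (m.factorial : ℚ) ≠ 0 := Nat.cast_ne_zero.2 m.factorial_ne_zero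
      simp only [ahCoeff, if_pos h, Nat.add_sub_cancel_left, h1']
      push_cast
      field_simp
      linear_combination hM'
  · refine mem_intSubring_of_mul_eq p (a := 1) (b := n.factorial) ?_ ?_
    · rw [hp.out.dvd_factorial]; omega
    · simp [ahCoeff, h, n.factorial_ne_zero]

theorem isUnit_intHom_ahCoeff_zero : intHom p A ⟨ahCoeff p 0, ahCoeff_mem p (by have := hp.out.pos; omega)⟩ = 1 := by
  have : ahCoeff p 0 = 1 := by simp [ahCoeff, hp.out.ne_zero]
  simp only [this]
  exact map_one (intHom p A)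

/-- The defining identity of the truncated Artin–Hasse exponential, below total degree `2p`. -/
theorem ahCoeff_identity {i j : ℕ} (hij : i + j < 2 * p) :
    ((i + j).choose i : ℚ) * ahCoeff p (i + j) = ahCoeff p i * ahCoeff p j +
      ∑ k ∈ Finset.Ioo 0 p, ((p.choose k / p : ℕ) : ℚ) *
        (if k ≤ i ∧ p - k ≤ j then ahCoeff p (i - k) * ahCoeff p (j - (p - k)) else 0) := by
  have hf : ∀ m : ℕ, (m.factorial : ℚ) ≠ 0 := fun m => Nat.cast_ne_zero.2 m.factorial_ne_zero
  have hp0 : (p : ℚ) ≠ 0 := Nat.cast_ne_zero.2 hp.out.ne_zero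
  have hch : ∀ a b : ℕ, ((a + b).choose a : ℚ) * (a.factorial * b.factorial) = (a + b).factorial := fun a b => by
    rw [← mul_assoc]
    exact_mod_cast (Nat.choose_symm_add (a := a) (b := b)) ▸ Nat.add_choose_mul_factorial_mul_factorial a b
  by_cases hn : i + j < p
  · rw [Finset.sum_eq_zero fun k hk => by rw [if_neg (by rw [Finset.mem_Ioo] at hk; omega), mul_zero], add_zero]
    simp only [ahCoeff, if_neg (not_le.2 hn), if_neg (show ¬ p ≤ i by omega), if_neg (show ¬ p ≤ j by omega), add_zero]
    field_simp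
    linear_combination hch i j
  obtain ⟨m, hm⟩ : ∃ m, i + j = p + m := ⟨i + j - p, by omega⟩
  -- each summand of the convolution
  have hterm : ∀ k ∈ Finset.Ioo 0 p, ((p.choose k / p : ℕ) : ℚ) *
      (if k ≤ i ∧ p - k ≤ j then ahCoeff p (i - k) * ahCoeff p (j - (p - k)) else 0) =
      (if k ≤ i then (p.choose k : ℚ) * (m.choose (i - k) : ℚ) else 0) / (p * m.factorial) := by
    intro k hk
    have hk' := Finset.mem_Ioo.1 hk
    have hdiv : ((p.choose k / p : ℕ) : ℚ) = (p.choose k : ℚ) / p := by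
      rw [eq_div_iff hp0, mul_comm, ← Nat.cast_mul, natCast_mul_choose_div p hk]
    by_cases h1 : k ≤ i
    · by_cases h2 : p - k ≤ j
      · rw [if_pos ⟨h1, h2⟩, if_pos h1, hdiv]
        have e : m = (i - k) + (j - (p - k)) := by omega
        simp only [ahCoeff, if_neg (show ¬ p ≤ i - k by omega), if_neg (show ¬ p ≤ j - (p - k) by omega), add_zero]
        have := hch (i - k) (j - (p - k))
        rw [← e] at this
        field_simp
        linear_combination (-(p.choose k : ℚ)) * this
      · rw [if_neg (fun h => h2 h.2), mul_zero, if_pos h1, Nat.choose_eq_zero_of_lt (show m < i - k by omega)]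
        simp
    · rw [if_neg (fun h => h1 h.1), if_neg h1]; simp
  rw [Finset.sum_congr rfl hterm, ← Finset.sum_div]
  -- Vandermonde
  have hV : ((p + m).choose i : ℚ) = (m.choose i : ℚ) + (if p ≤ i then (m.choose (i - p) : ℚ) else 0) +
      ∑ k ∈ Finset.Ioo 0 p, (if k ≤ i then (p.choose k : ℚ) * (m.choose (i - k) : ℚ) else 0) := by
    rw [Nat.add_choose_eq, Finset.Nat.sum_antidiagonal_eq_sum_range_succ (fun a b => p.choose a * m.choose b), Nat.cast_sum,
      ← Finset.sum_filter_add_sum_filter_not _ (fun k => k ∈ Finset.Ioo 0 p), add_comm]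
    congr 1
    · have : (Finset.range (i + 1)).filter (fun k => k ∉ Finset.Ioo 0 p) = insert 0 ((Finset.Icc p i)) := by
        ext k; simp only [Finset.mem_filter, Finset.mem_range, Finset.mem_Ioo, Finset.mem_insert, Finset.mem_Icc]; omega
      rw [this, Finset.sum_insert (by simp [hp.out.ne_zero]), Nat.choose_zero_right, one_mul, Nat.sub_zero]
      congr 1
      split_ifs with h
      · rw [Finset.sum_eq_single p (fun k hk hne => by
          rw [Finset.mem_Icc] at hk
          rw [Nat.choose_eq_zero_of_lt (show p < k by omega), zero_mul, Nat.cast_zero])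
          (fun h' => absurd (Finset.mem_Icc.2 ⟨le_rfl, h⟩) h'), Nat.choose_self, one_mul]
      · rw [Finset.Icc_eq_empty h, Finset.sum_empty]
    · rw [Finset.sum_filter, Finset.sum_ite_mem, ← Finset.sum_filter]
      refine Finset.sum_congr ?_ fun k _ => by rw [Nat.cast_mul]
      ext k; simp only [Finset.mem_filter, Finset.mem_inter, Finset.mem_range]; rw [Nat.lt_succ_iff, and_comm]
  rw [← sub_eq_iff_eq_add'] at hV
  rw [← hV, hm]
  simp only [ahCoeff, if_pos (Nat.le_add_right p m), Nat.add_sub_cancel_left]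
  have hc := hch i j
  rw [hm] at hc
  have hpick : ∀ a b : ℕ, a + b = m → (m.choose a : ℚ) / (p * m.factorial) = 1 / (p * (a.factorial * b.factorial)) := fun a b h => by
    subst h
    have := hch a b
    field_simp
    linear_combination this
  have hA : ((p + m).choose i : ℚ) * (1 / ((p + m).factorial : ℚ)) = 1 / (i.factorial : ℚ) * (1 / (j.factorial : ℚ)) := by
    field_simp
    linear_combination hc
  rw [mul_add, hA, sub_div, add_div]
  by_cases hi : p ≤ i
  · have hj : ¬ p ≤ j := by omega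
    rw [Nat.choose_eq_zero_of_lt (show m < i by omega)]
    simp only [if_pos hi, if_neg hj, hpick (i - p) j (by omega)]
    simp only [Nat.cast_zero, zero_div, add_zero]
    field_simp
    ring
  · by_cases hj : p ≤ j
    · simp only [if_neg hi, if_pos hj, hpick i (j - p) (by omega)]
      simp only [zero_div, add_zero]
      field_simp
      ring
    · rw [Nat.choose_eq_zero_of_lt (show m < i by omega)]
      simp only [if_neg hi, if_neg hj, Nat.cast_zero, zero_div, add_zero, sub_zero]
      field_simp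

variable {A}

/-- For nilpotent `s` there is a unit `f` with `f(X+Y) ≡ f(X) f(Y) (1 + s^p S(X,Y))` modulo `s^(2p)`. -/
theorem exists_unit_defect {s : A} (hs : IsNilpotent s) :
    ∃ f : A[X], IsUnit f ∧ Polynomial.aeval (MvPolynomial.X 0 + MvPolynomial.X 1 : MvPolynomial (Fin 2) A) f -
        Polynomial.aeval (MvPolynomial.X 0 : MvPolynomial (Fin 2) A) f *
          Polynomial.aeval (MvPolynomial.X 1 : MvPolynomial (Fin 2) A) f *
          (1 + MvPolynomial.C (s ^ p) * wittTerm p 0) ∈
      (Ideal.span {s ^ (2 * p)}).map (MvPolynomial.C : A →+* MvPolynomial (Fin 2) A) := by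
  classical
  let e : ℕ → A := fun n => if h : n < 2 * p then intHom p A ⟨ahCoeff p n, ahCoeff_mem p h⟩ else 0
  let f : A[X] := ∑ n ∈ Finset.range (2 * p), C (e n * s ^ n) * X ^ n
  have hf : ∀ n, f.coeff n = e n * s ^ n := fun n => by
    simp only [f, finsetSum_coeff, coeff_C_mul_X_pow, Finset.sum_ite_eq, Finset.mem_range]
    split_ifs with h
    · rfl
    · simp [e, h]
  refine ⟨f, Polynomial.isUnit_of_coeff_isUnit_isNilpotent ?_ fun n hn => ?_, ?_⟩
  · rw [hf, pow_zero, mul_one]
    simp only [e, dif_pos (show 0 < 2 * p by have := hp.out.pos; omega), isUnit_intHom_ahCoeff_zero p A]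
    exact isUnit_one
  · rw [hf]
    exact (Commute.all _ _).isNilpotent_mul_left (hs.pow_of_pos hn)
  rw [MvPolynomial.mem_map_C_iff]
  intro d
  obtain ⟨i, j, rfl⟩ : ∃ i j, d = pr i j := ⟨_, _, (pr_eta d).symm⟩
  have hprod : ∀ k ∈ Finset.Ioo 0 p, MvPolynomial.coeff (pr i j) (Polynomial.aeval (MvPolynomial.X 0 : MvPolynomial (Fin 2) A) f *
      Polynomial.aeval (MvPolynomial.X 1 : MvPolynomial (Fin 2) A) f * MvPolynomial.monomial (pr k (p - k)) (1 : A)) =
      if k ≤ i ∧ p - k ≤ j then f.coeff (i - k) * f.coeff (j - (p - k)) else 0 := by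
    intro k _
    rw [MvPolynomial.coeff_mul_monomial', mul_one]
    have hle : pr k (p - k) ≤ pr i j ↔ k ≤ i ∧ p - k ≤ j := by
      refine ⟨fun h => ⟨by simpa using h 0, by simpa using h 1⟩, fun h x => ?_⟩
      fin_cases x <;> simp [h.1, h.2]
    simp only [hle]
    split_ifs
    · rw [show pr i j - pr k (p - k) = pr (i - k) (j - (p - k)) by ext x; fin_cases x <;> simp, coeff_aeval_mul_aeval]
    · rfl
  have hw : (wittTerm p 0 : MvPolynomial (Fin 2) A) = ∑ k ∈ Finset.Ioo 0 p, MvPolynomial.C ((p.choose k / p : ℕ) : A) * MvPolynomial.monomial (pr k (p - k)) 1 := by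
    simp only [wittTerm, map_sum, map_mul, map_pow, MvPolynomial.aeval_C, MvPolynomial.aeval_X, Matrix.cons_val_zero, Matrix.cons_val_one, pow_zero, pow_one, MvPolynomial.algebraMap_eq, monomial_pr, mul_assoc]
  rw [mul_add, mul_one, MvPolynomial.coeff_sub, MvPolynomial.coeff_add, coeff_aeval_add, coeff_aeval_mul_aeval,
    show ∀ Q : MvPolynomial (Fin 2) A, Q * (MvPolynomial.C (s ^ p) * wittTerm p 0) = MvPolynomial.C (s ^ p) * (Q * wittTerm p 0) from fun Q => by ring,
    MvPolynomial.coeff_C_mul, hw, Finset.mul_sum, MvPolynomial.coeff_sum]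
  simp only [show ∀ (Q : MvPolynomial (Fin 2) A) (c : A) (Mn : MvPolynomial (Fin 2) A), Q * (MvPolynomial.C c * Mn) = MvPolynomial.C c * (Q * Mn) from fun Q c Mn => by ring, MvPolynomial.coeff_C_mul]
  rw [Finset.sum_congr rfl fun k hk => by rw [hprod k hk]]
  simp only [hf]
  have hfac : s ^ p * (∑ k ∈ Finset.Ioo 0 p, ((p.choose k / p : ℕ) : A) *
        if k ≤ i ∧ p - k ≤ j then e (i - k) * s ^ (i - k) * (e (j - (p - k)) * s ^ (j - (p - k))) else 0) =
      s ^ (i + j) * ∑ k ∈ Finset.Ioo 0 p, ((p.choose k / p : ℕ) : A) * if k ≤ i ∧ p - k ≤ j then e (i - k) * e (j - (p - k)) else 0 := by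
    rw [Finset.mul_sum, Finset.mul_sum]
    refine Finset.sum_congr rfl fun k hk => ?_
    rw [Finset.mem_Ioo] at hk
    split_ifs with h
    · rw [show s ^ (i + j) = s ^ p * (s ^ (i - k) * s ^ (j - (p - k))) by rw [← pow_add, ← pow_add]; congr 1; omega]
      ring
    · simp
  rw [hfac]
  by_cases hlt : i + j < 2 * p
  · have hid := congrArg (intHom p A) (show (⟨_, mul_mem (natCast_mem (intSubring p) _) (ahCoeff_mem p hlt)⟩ : intSubring p) =
        ⟨ahCoeff p i, ahCoeff_mem p (show i < 2 * p by omega)⟩ * ⟨ahCoeff p j, ahCoeff_mem p (show j < 2 * p by omega)⟩ +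
          ∑ k ∈ Finset.Ioo 0 p, ((p.choose k / p : ℕ) : intSubring p) * (if k ≤ i ∧ p - k ≤ j then
            ⟨ahCoeff p (i - k), ahCoeff_mem p (show i - k < 2 * p by omega)⟩ * ⟨ahCoeff p (j - (p - k)), ahCoeff_mem p (show j - (p - k) < 2 * p by omega)⟩ else 0)
        from Subtype.ext (by
          push_cast [apply_ite Subtype.val]
          exact ahCoeff_identity p hlt))
    have hL : intHom p A ⟨_, mul_mem (natCast_mem (intSubring p) ((i + j).choose i)) (ahCoeff_mem p hlt)⟩ =
        ((i + j).choose i : A) * e (i + j) := by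
      rw [show (⟨_, mul_mem (natCast_mem (intSubring p) ((i + j).choose i)) (ahCoeff_mem p hlt)⟩ : intSubring p) =
        (((i + j).choose i : ℕ) : intSubring p) * ⟨ahCoeff p (i + j), ahCoeff_mem p hlt⟩ from Subtype.ext (by simp), map_mul, map_natCast]
      simp only [e, dif_pos hlt]
    rw [hL, map_add, map_mul, map_sum] at hid
    have hsum : ∀ k, intHom p A (((p.choose k / p : ℕ) : intSubring p) * (if k ≤ i ∧ p - k ≤ j then
            ⟨ahCoeff p (i - k), ahCoeff_mem p (show i - k < 2 * p by omega)⟩ * ⟨ahCoeff p (j - (p - k)), ahCoeff_mem p (show j - (p - k) < 2 * p by omega)⟩ else 0)) =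
        ((p.choose k / p : ℕ) : A) * if k ≤ i ∧ p - k ≤ j then e (i - k) * e (j - (p - k)) else 0 := fun k => by
      rw [map_mul, map_natCast, apply_ite (intHom p A), map_mul, map_zero]
      simp only [e, dif_pos (show i - k < 2 * p by omega), dif_pos (show j - (p - k) < 2 * p by omega)]
    simp only [hsum] at hid
    have hi : intHom p A ⟨ahCoeff p i, ahCoeff_mem p (show i < 2 * p by omega)⟩ = e i := by simp only [e, dif_pos (show i < 2 * p by omega)]
    have hj : intHom p A ⟨ahCoeff p j, ahCoeff_mem p (show j < 2 * p by omega)⟩ = e j := by simp only [e, dif_pos (show j < 2 * p by omega)]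
    rw [hi, hj] at hid
    convert zero_mem (Ideal.span {s ^ (2 * p)}) using 1
    linear_combination s ^ (i + j) * hid + e i * e j * pow_add s i j
  · obtain ⟨c, hc⟩ := pow_dvd_pow s (not_lt.1 hlt)
    rw [hc, show e i * s ^ i * (e j * s ^ j) = e i * e j * s ^ (i + j) by ring, hc]
    exact Ideal.mem_span_singleton.2 ⟨_, (by ring :
      _ = s ^ (2 * p) * (((i + j).choose i : A) * (e (i + j) * c) - (e i * e j * c + c * ∑ k ∈ Finset.Ioo 0 p, ((p.choose k / p : ℕ) : A) * if k ≤ i ∧ p - k ≤ j then e (i - k) * e (j - (p - k)) else 0)))⟩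

end Groth.Agent.GaLib
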