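import Groth.Agent.GaLib.Coeff
import Groth.Agent.GaLib.Binom
import Mathlib.Algebra.MvPolynomial.Eval
import Mathlib.Algebra.MvPolynomial.Degrees
import Mathlib.Tactic.LinearCombination
import Mathlib.Data.Nat.Choose.Dvd
import Mathlib.Tactic.Ring
import Mathlib.NumberTheory.Padics.PadicVal.Basic
import Mathlib.Algebra.CharP.Lemmas

/-!
# Classification of symmetric polynomial two-cocycles in characteristic `p`
-/

set_option maxHeartbeats 400000

universe u

open MvPolynomial

namespace Groth.Agent.GaLib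

variable {A : Type u} [CommRing A]

/-- `G(X+Y) - G(X) - G(Y)`. -/
noncomputable def addDefect (G : Polynomial A) : MvPolynomial (Fin 2) A :=
  Polynomial.aeval (X 0 + X 1 : MvPolynomial (Fin 2) A) G - Polynomial.aeval (X 0 : MvPolynomial (Fin 2) A) G -
    Polynomial.aeval (X 1 : MvPolynomial (Fin 2) A) G

/-- The reduction of `((X+Y)^p - X^p - Y^p)/p`, evaluated at the `p^i`-th powers. -/
noncomputable def wittTerm (p i : ℕ) : MvPolynomial (Fin 2) A :=
  aeval ![X 0 ^ p ^ i, X 1 ^ p ^ i]
    (∑ j ∈ Finset.Ioo 0 p, C ((p.choose j / p : ℕ) : A) * X 0 ^ j * X 1 ^ (p - j) : MvPolynomial (Fin 2) A)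

/-- A symmetric two-cocycle. -/
def IsSymmCocycle (F : MvPolynomial (Fin 2) A) : Prop :=
  aeval ![X 1, X 0] F = F ∧
    aeval ![X 0, X 1 + X 2] F + aeval ![X 1, X 2] F - aeval ![X 0 + X 1, X 2] F - aeval ![X 0, X 1] F =
      (0 : MvPolynomial (Fin 3) A)

theorem IsSymmCocycle.add {F G : MvPolynomial (Fin 2) A} (hF : IsSymmCocycle F) (hG : IsSymmCocycle G) :
    IsSymmCocycle (F + G) := by
  refine ⟨by rw [map_add, hF.1, hG.1], ?_⟩
  simp only [map_add]
  linear_combination hF.2 + hG.2

theorem IsSymmCocycle.C_mul {F : MvPolynomial (Fin 2) A} (hF : IsSymmCocycle F) (r : A) :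
    IsSymmCocycle (C r * F) := by
  refine ⟨by rw [map_mul, aeval_C, hF.1, algebraMap_eq], ?_⟩
  simp only [map_mul, aeval_C, algebraMap_eq]
  linear_combination C r * hF.2

theorem IsSymmCocycle.zero : IsSymmCocycle (0 : MvPolynomial (Fin 2) A) := ⟨map_zero _, by simp⟩

theorem IsSymmCocycle.sum {ι : Type*} (s : Finset ι) (F : ι → MvPolynomial (Fin 2) A)
    (h : ∀ i ∈ s, IsSymmCocycle (F i)) : IsSymmCocycle (∑ i ∈ s, F i) :=
  Finset.sum_induction _ IsSymmCocycle (fun _ _ => IsSymmCocycle.add) IsSymmCocycle.zero h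

theorem isSymmCocycle_addDefect (G : Polynomial A) : IsSymmCocycle (addDefect G) := by
  refine ⟨?_, ?_⟩
  · simp only [addDefect, map_sub, ← Polynomial.aeval_algHom_apply, map_add, aeval_X, Matrix.cons_val_zero, Matrix.cons_val_one]
    rw [add_comm (X 1 : MvPolynomial (Fin 2) A)]
    ring
  · simp only [addDefect, map_sub, ← Polynomial.aeval_algHom_apply, map_add, aeval_X, Matrix.cons_val_zero, Matrix.cons_val_one]
    rw [add_assoc (X 0 : MvPolynomial (Fin 3) A)]
    ring

theorem IsSymmCocycle.map {B : Type*} [CommRing B] {F : MvPolynomial (Fin 2) A} (hF : IsSymmCocycle F) (φ : A →+* B) :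
    IsSymmCocycle (MvPolynomial.map φ F) := by
  have key : ∀ (n : ℕ) (v : Fin 2 → MvPolynomial (Fin n) A) (G : MvPolynomial (Fin 2) A),
      MvPolynomial.map φ (aeval v G) = aeval (fun k => MvPolynomial.map φ (v k)) (MvPolynomial.map φ G) := by
    intro n v G
    induction G using MvPolynomial.induction_on with
    | C a => simp [algebraMap_eq]
    | add P Q hP hQ => simp only [map_add, hP, hQ]
    | mul_X P k hP => simp only [map_mul, hP, aeval_X, map_X]
  have e : ∀ (n : ℕ) (x y : MvPolynomial (Fin n) A), (fun k => MvPolynomial.map φ (![x, y] k)) = ![MvPolynomial.map φ x, MvPolynomial.map φ y] :=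
    fun n x y => by funext k; fin_cases k <;> rfl
  refine ⟨?_, ?_⟩
  · have := congrArg (MvPolynomial.map φ) hF.1
    rwa [key, e, map_X, map_X] at this
  · have := congrArg (MvPolynomial.map φ) hF.2
    simpa only [map_sub, map_add, map_zero, key, e, map_X] using this

variable (p : ℕ) [hp : Fact p.Prime]

theorem natCast_mul_choose_div {j : ℕ} (hj : j ∈ Finset.Ioo 0 p) : p * (p.choose j / p) = p.choose j := by
  rw [Finset.mem_Ioo] at hj
  exact Nat.mul_div_cancel' (Nat.Prime.dvd_choose_self hp.out (by omega) hj.2)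

theorem isSymmCocycle_wittBase :
    IsSymmCocycle (∑ j ∈ Finset.Ioo 0 p, C ((p.choose j / p : ℕ) : A) * X 0 ^ j * X 1 ^ (p - j) : MvPolynomial (Fin 2) A) := by
  set S : MvPolynomial (Fin 2) ℤ := ∑ j ∈ Finset.Ioo 0 p, C ((p.choose j / p : ℕ) : ℤ) * X 0 ^ j * X 1 ^ (p - j) with hS
  have hpS : C (p : ℤ) * S = addDefect (Polynomial.X ^ p) := by
    simp only [addDefect, map_pow, Polynomial.aeval_X]
    have hrange : Finset.range (p + 1) = insert 0 (insert p (Finset.Ioo 0 p)) := by
      ext j; simp only [Finset.mem_range, Finset.mem_insert, Finset.mem_Ioo]; omega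
    rw [add_pow, hrange, Finset.sum_insert (by simp [hp.out.ne_zero.symm]), Finset.sum_insert (by simp),
      hS, Finset.mul_sum]
    have : ∀ j ∈ Finset.Ioo 0 p, (C (p : ℤ) * (C ((p.choose j / p : ℕ) : ℤ) * X 0 ^ j * X 1 ^ (p - j)) : MvPolynomial (Fin 2) ℤ) =
        X 0 ^ j * X 1 ^ (p - j) * (p.choose j : MvPolynomial (Fin 2) ℤ) := by
      intro j hj
      rw [← mul_assoc, ← mul_assoc, ← map_mul, ← Nat.cast_mul, natCast_mul_choose_div p hj, map_natCast]
      ring
    rw [Finset.sum_congr rfl this]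
    simp
    ring
  have hcoc : IsSymmCocycle S := by
    have h := isSymmCocycle_addDefect (Polynomial.X ^ p : Polynomial ℤ)
    rw [← hpS] at h
    have hne : ∀ n : ℕ, (C (p : ℤ) : MvPolynomial (Fin n) ℤ) ≠ 0 := fun n => by
      rw [ne_eq, map_eq_zero_iff _ (C_injective _ _)]; exact_mod_cast hp.out.ne_zero
    refine ⟨mul_left_cancel₀ (hne 2) ?_, mul_left_cancel₀ (hne 3) ?_⟩
    · simpa [algebraMap_eq] using h.1
    · have h2 := h.2
      simp only [map_mul, aeval_C, algebraMap_eq] at h2
      linear_combination h2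
  have := hcoc.map (Int.castRingHom A)
  rw [hS, map_sum] at this
  simpa only [map_mul, map_pow, map_C, map_X, map_natCast] using this

theorem isSymmCocycle_wittTerm [CharP A p] (i : ℕ) : IsSymmCocycle (wittTerm p i : MvPolynomial (Fin 2) A) := by
  obtain ⟨h1, h2⟩ := isSymmCocycle_wittBase (A := A) p
  unfold wittTerm
  set S : MvPolynomial (Fin 2) A := ∑ j ∈ Finset.Ioo 0 p, C ((p.choose j / p : ℕ) : A) * X 0 ^ j * X 1 ^ (p - j)
  have key : ∀ (n : ℕ) (x y : MvPolynomial (Fin n) A),
      aeval ![x, y] (aeval ![X 0 ^ p ^ i, X 1 ^ p ^ i] S : MvPolynomial (Fin 2) A) = aeval ![x ^ p ^ i, y ^ p ^ i] S := by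
    intro n x y
    rw [← AlgHom.comp_apply, comp_aeval]
    exact congrFun (congrArg _ (congrArg aeval (by funext k; fin_cases k <;> simp))) S
  have key' : ∀ (m n : ℕ) (w : Fin m → MvPolynomial (Fin n) A) (x y : MvPolynomial (Fin m) A),
      aeval w (aeval ![x, y] S) = aeval ![aeval w x, aeval w y] S := by
    intro m n w x y
    rw [← AlgHom.comp_apply, comp_aeval]
    exact congrFun (congrArg _ (congrArg aeval (by funext k; fin_cases k <;> simp))) S
  refine ⟨?_, ?_⟩
  · rw [key]
    conv_rhs => rw [← h1, key']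
    simp
  · rw [key, key, key, key, add_pow_char_pow, add_pow_char_pow]
    have := congrArg (aeval (R := A) ![(X 0 : MvPolynomial (Fin 3) A) ^ p ^ i, X 1 ^ p ^ i, X 2 ^ p ^ i]) h2
    simp only [map_sub, map_add, map_zero, key', aeval_X] at this
    simpa using this

/-- The coefficient of `S(X^(p^i), Y^(p^i))`. -/
theorem coeff_wittTerm (i a b : ℕ) :
    coeff (pr a b) (wittTerm p i : MvPolynomial (Fin 2) A) =
      ∑ j ∈ Finset.Ioo 0 p, if j * p ^ i = a ∧ (p - j) * p ^ i = b then ((p.choose j / p : ℕ) : A) else 0 := by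
  classical
  simp only [wittTerm, map_sum, map_mul, map_pow, aeval_C, aeval_X, Matrix.cons_val_zero, Matrix.cons_val_one,
    algebraMap_eq, ← pow_mul, coeff_sum]
  refine Finset.sum_congr rfl fun j _ => ?_
  rw [mul_assoc, coeff_C_mul, mul_comm (p ^ i) j, mul_comm (p ^ i) (p - j), ← monomial_pr, coeff_monomial, mul_ite, mul_one, mul_zero]
  simp [pr_inj]

theorem coeff_wittTerm_pow (i v q : ℕ) (hq : q = p ∨ ¬ p ∣ q) (hq1 : 1 ≤ q) :
    coeff (pr (p ^ v) ((q - 1) * p ^ v)) (wittTerm p i : MvPolynomial (Fin 2) A) =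
      if q = p ∧ i = v then 1 else 0 := by
  rw [coeff_wittTerm]
  split_ifs with h
  · obtain ⟨rfl, rfl⟩ := h
    rw [Finset.sum_eq_single 1]
    · rw [if_pos ⟨one_mul _, rfl⟩, Nat.choose_one_right, Nat.div_self hp.out.pos, Nat.cast_one]
    · intro j hj hne
      rw [if_neg]
      rintro ⟨hja, -⟩
      exact hne (Nat.eq_of_mul_eq_mul_right (pow_pos hp.out.pos i) (hja.trans (one_mul _).symm))
    · intro h1; exact absurd (Finset.mem_Ioo.2 ⟨one_pos, hp.out.one_lt⟩) h1
  · refine Finset.sum_eq_zero fun j hj => if_neg ?_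
    rintro ⟨h1, h2⟩
    rw [Finset.mem_Ioo] at hj
    have hsum : p ^ (i + 1) = q * p ^ v := by
      calc p ^ (i + 1) = j * p ^ i + (p - j) * p ^ i := by rw [← Nat.add_mul, Nat.add_sub_cancel' hj.2.le, pow_succ']
        _ = (1 + (q - 1)) * p ^ v := by rw [h1, h2, Nat.add_mul, one_mul]
        _ = q * p ^ v := by rw [Nat.add_sub_cancel' hq1]
    rcases hq with rfl | hq
    · rw [← pow_succ'] at hsum
      exact h ⟨rfl, by have := Nat.pow_right_injective hp.out.two_le hsum; omega⟩
    · have h3 : q ∣ p ^ (i + 1) := Dvd.intro _ hsum.symm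
      obtain ⟨e, -, rfl⟩ := (Nat.dvd_prime_pow hp.out).1 h3
      cases e with
      | zero =>
        simp only [pow_zero, le_refl, Nat.sub_self, zero_mul] at h2
        exact Nat.mul_ne_zero (by omega) (pow_ne_zero i hp.out.ne_zero) h2
      | succ e => exact hq (dvd_pow_self p e.succ_ne_zero)

theorem coeff_addDefect (G : Polynomial A) (a b : ℕ) :
    coeff (pr a b) (addDefect G) = ((a + b).choose a : A) * G.coeff (a + b) -
      (if b = 0 then G.coeff a else 0) - (if a = 0 then G.coeff b else 0) := by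
  rw [addDefect, coeff_sub, coeff_sub, coeff_aeval_add, coeff_aeval_X0, coeff_aeval_X1]

/-- The exponent of `X₀ ^ a * X₁ ^ b * X₂ ^ c`. -/
noncomputable def tr (a b c : ℕ) : Fin 3 →₀ ℕ := Finsupp.single 0 a + Finsupp.single 1 b + Finsupp.single 2 c

theorem tr_inj {a b c a' b' c' : ℕ} : tr a b c = tr a' b' c' ↔ a = a' ∧ b = b' ∧ c = c' :=
  ⟨fun h => ⟨by simpa [tr] using DFunLike.congr_fun h 0, by simpa [tr] using DFunLike.congr_fun h 1,
    by simpa [tr] using DFunLike.congr_fun h 2⟩, fun ⟨x, y, z⟩ => x ▸ y ▸ z ▸ rfl⟩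

theorem monomial_tr (a b c : ℕ) :
    (monomial (tr a b c) 1 : MvPolynomial (Fin 3) A) = X 0 ^ a * X 1 ^ b * X 2 ^ c := by
  rw [X_pow_eq_monomial, X_pow_eq_monomial, X_pow_eq_monomial, monomial_mul, monomial_mul, one_mul, one_mul, tr]

theorem coeff_tr_aeval (F : MvPolynomial (Fin 2) A) (a b c : ℕ) :
    coeff (tr a b c) (aeval ![X 0, X 1 + X 2] F : MvPolynomial (Fin 3) A) = ((b + c).choose b : A) * coeff (pr a (b + c)) F ∧
    coeff (tr a b c) (aeval ![X 1, X 2] F : MvPolynomial (Fin 3) A) = (if a = 0 then coeff (pr b c) F else 0) ∧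
    coeff (tr a b c) (aeval ![X 0 + X 1, X 2] F : MvPolynomial (Fin 3) A) = ((a + b).choose a : A) * coeff (pr (a + b) c) F ∧
    coeff (tr a b c) (aeval ![X 0, X 1] F : MvPolynomial (Fin 3) A) = (if c = 0 then coeff (pr a b) F else 0) := by
  classical
  induction F using MvPolynomial.induction_on' with
  | add P Q hP hQ =>
    simp only [map_add, coeff_add, hP.1, hP.2.1, hP.2.2.1, hP.2.2.2, hQ.1, hQ.2.1, hQ.2.2.1, hQ.2.2.2, mul_add]
    refine ⟨trivial, ?_, trivial, ?_⟩ <;> split_ifs <;> simp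
  | monomial d r =>
    obtain ⟨i, j, rfl⟩ : ∃ i j, d = pr i j := ⟨_, _, (pr_eta d).symm⟩
    have hprod : ∀ v : Fin 2 → MvPolynomial (Fin 3) A, ((pr i j).prod fun k e => v k ^ e) = v 0 ^ i * v 1 ^ j := by
      intro v
      rw [Finsupp.prod_fintype _ _ (fun k => pow_zero _), Fin.prod_univ_two, pr_zero, pr_one]
    simp only [aeval_monomial, hprod, algebraMap_eq, coeff_C_mul, Matrix.cons_val_zero, Matrix.cons_val_one, coeff_monomial, pr_inj]
    refine ⟨?_, ?_, ?_, ?_⟩
    · rw [add_pow, Finset.mul_sum, coeff_sum]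
      have e : ∀ m : ℕ, (X 0 ^ i * (X 1 ^ m * X 2 ^ (j - m) * (j.choose m : MvPolynomial (Fin 3) A))) =
          C (j.choose m : A) * monomial (tr i m (j - m)) 1 := fun m => by rw [monomial_tr, map_natCast]; ring
      simp only [e, coeff_C_mul, coeff_monomial, tr_inj, mul_ite, mul_one, mul_zero]
      by_cases h : i = a ∧ j = b + c
      · obtain ⟨rfl, rfl⟩ := h
        rw [if_pos ⟨rfl, rfl⟩, Finset.sum_eq_single b (fun m _ hm => if_neg fun h => hm h.2.1)
          (fun hb => absurd (Finset.mem_range.2 (by omega)) hb), if_pos ⟨rfl, rfl, by omega⟩, mul_comm]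
      · rw [if_neg h, Finset.sum_eq_zero fun m hm => if_neg ?_, mul_zero]
        rintro ⟨h1, h2, h3⟩
        rw [Finset.mem_range] at hm
        exact h ⟨h1, by omega⟩
    · have e : (X 1 ^ i * X 2 ^ j : MvPolynomial (Fin 3) A) = monomial (tr 0 i j) 1 := by rw [monomial_tr]; ring
      rw [e, coeff_monomial]
      simp only [tr_inj]
      by_cases h : a = 0 <;> simp [h, eq_comm (a := (0 : ℕ))]
    · rw [add_pow, Finset.sum_mul, coeff_sum]
      have e : ∀ m : ℕ, (X 0 ^ m * X 1 ^ (i - m) * (i.choose m : MvPolynomial (Fin 3) A)) * X 2 ^ j =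
          C (i.choose m : A) * monomial (tr m (i - m) j) 1 := fun m => by rw [monomial_tr, map_natCast]; ring
      simp only [e, coeff_C_mul, coeff_monomial, tr_inj, mul_ite, mul_one, mul_zero]
      by_cases h : i = a + b ∧ j = c
      · obtain ⟨rfl, rfl⟩ := h
        rw [if_pos ⟨rfl, rfl⟩, Finset.sum_eq_single a (fun m _ hm => if_neg fun h => hm h.1)
          (fun hb => absurd (Finset.mem_range.2 (by omega)) hb), if_pos ⟨rfl, by omega, rfl⟩, mul_comm]
      · rw [if_neg h, Finset.sum_eq_zero fun m hm => if_neg ?_, mul_zero]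
        rintro ⟨h1, h2, h3⟩
        rw [Finset.mem_range] at hm
        exact h ⟨by omega, h3⟩
    · have e : (X 0 ^ i * X 1 ^ j : MvPolynomial (Fin 3) A) = monomial (tr i j 0) 1 := by rw [monomial_tr]; ring
      rw [e, coeff_monomial]
      simp only [tr_inj]
      by_cases h : c = 0 <;> simp [h, eq_comm (a := (0 : ℕ))]

theorem IsSymmCocycle.coeff_eq {F : MvPolynomial (Fin 2) A} (hF : IsSymmCocycle F) (a b c : ℕ) :
    ((b + c).choose b : A) * coeff (pr a (b + c)) F + (if a = 0 then coeff (pr b c) F else 0) =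
      ((a + b).choose a : A) * coeff (pr (a + b) c) F + (if c = 0 then coeff (pr a b) F else 0) := by
  have h := congrArg (coeff (tr a b c)) hF.2
  obtain ⟨h1, h2, h3, h4⟩ := coeff_tr_aeval F a b c
  rw [coeff_sub, coeff_sub, coeff_add, h1, h2, h3, h4, coeff_zero] at h
  linear_combination h

theorem IsSymmCocycle.coeff_comm {F : MvPolynomial (Fin 2) A} (hF : IsSymmCocycle F) (a b : ℕ) :
    coeff (pr a b) F = coeff (pr b a) F := by
  conv_rhs => rw [← hF.1]
  have : ∀ G : MvPolynomial (Fin 2) A, coeff (pr b a) (aeval ![X 1, X 0] G : MvPolynomial (Fin 2) A) = coeff (pr a b) G := by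
    intro G
    classical
    induction G using MvPolynomial.induction_on' with
    | add P Q hP hQ => simp only [map_add, coeff_add, hP, hQ]
    | monomial d r =>
      obtain ⟨i, j, rfl⟩ : ∃ i j, d = pr i j := ⟨_, _, (pr_eta d).symm⟩
      simp only [aeval_monomial, algebraMap_eq]
      rw [Finsupp.prod_fintype _ _ (fun k => pow_zero _), Fin.prod_univ_two, pr_zero, pr_one]
      simp only [Matrix.cons_val_zero, Matrix.cons_val_one]
      rw [mul_comm (X 1 ^ i) (X 0 ^ j), ← monomial_pr, coeff_C_mul, coeff_monomial, coeff_monomial]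
      simp [pr_inj, and_comm]
  exact (this F).symm

theorem IsSymmCocycle.coeff_edge {F : MvPolynomial (Fin 2) A} (hF : IsSymmCocycle F) {a : ℕ} (ha : a ≠ 0) :
    coeff (pr a 0) F = 0 := by
  have := hF.coeff_eq a 0 0
  simp only [add_zero, Nat.choose_self, Nat.cast_one, one_mul, if_neg ha, if_true] at this
  linear_combination -this

section CharP

variable [CharP A p]

/-- Vanishing in one homogeneous degree of a cocycle normalised at `(p^v, n - p^v)`. -/
theorem IsSymmCocycle.coeff_eq_zero_of_normalised {F : MvPolynomial (Fin 2) A} (hF : IsSymmCocycle F)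
    {n v q : ℕ} (hn : n = q * p ^ v) (hq2 : 2 ≤ q) (hq : q = p ∨ ¬ p ∣ q)
    (h0 : coeff (pr (p ^ v) (n - p ^ v)) F = 0) {i : ℕ} (hi : 1 ≤ i) (hin : i < n) :
    coeff (pr i (n - i)) F = 0 := by
  have hpos : ∀ u, 0 < p ^ u := fun u => pow_pos hp.out.pos u
  have rel : ∀ a b, 1 ≤ a → 1 ≤ b → a + b < n →
      ((n - a).choose b : A) * coeff (pr a (n - a)) F = ((a + b).choose a : A) * coeff (pr (a + b) (n - (a + b))) F := by
    intro a b ha hb hab
    have := hF.coeff_eq a b (n - (a + b))
    rwa [if_neg (by omega), if_neg (by omega), add_zero, add_zero, show b + (n - (a + b)) = n - a by omega] at this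
  have hA : ∀ u t, ¬ p ∣ t → t * p ^ u < n → coeff (pr (p ^ u) (n - p ^ u)) F = 0 →
      coeff (pr (t * p ^ u) (n - t * p ^ u)) F = 0 := by
    intro u t ht hlt hz
    rcases Nat.lt_or_ge t 2 with h | h
    · obtain rfl : t = 1 := by
        rcases Nat.eq_zero_or_pos t with rfl | _
        · exact absurd (dvd_zero p) ht
        · omega
      simpa using hz
    · have := rel (p ^ u) ((t - 1) * p ^ u) (hpos u) (Nat.one_le_iff_ne_zero.2 (Nat.mul_ne_zero (by omega) (hpos u).ne'))
        (by rw [add_comm, ← Nat.succ_mul, Nat.succ_eq_add_one, Nat.sub_add_cancel (by omega)]; exact hlt)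
      rw [hz, mul_zero, add_comm, ← Nat.succ_mul, Nat.succ_eq_add_one, Nat.sub_add_cancel (by omega : 1 ≤ t), choose_mul_pow_pow p A] at this
      exact ((CharP.isUnit_natCast_iff hp.out).2 ht).mul_right_eq_zero.1 this.symm
  have hP : ∀ u, p ^ u < n → coeff (pr (p ^ u) (n - p ^ u)) F = 0 := by
    intro u hu
    rcases lt_trichotomy u v with h | rfl | h
    · have hlt : p ^ u < p ^ v := Nat.pow_lt_pow_right hp.out.one_lt h
      have hvn : p ^ v < n := by rw [hn]; exact lt_mul_left (hpos v) hq2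
      have := rel (p ^ u) (p ^ v - p ^ u) (hpos u) (by omega) (by omega)
      rw [Nat.add_sub_cancel' hlt.le, h0, mul_zero,
        show n - p ^ u = (q - 1) * p ^ v + (p ^ v - p ^ u) by
          rw [hn, ← Nat.add_sub_assoc hlt.le, ← Nat.succ_mul, Nat.succ_eq_add_one, Nat.sub_add_cancel (by omega : 1 ≤ q)],
        choose_block_low p A (by have := hpos u; omega), one_mul] at this
      rwa [show n - p ^ u = (q - 1) * p ^ v + (p ^ v - p ^ u) by
          rw [hn, ← Nat.add_sub_assoc hlt.le, ← Nat.succ_mul, Nat.succ_eq_add_one, Nat.sub_add_cancel (by omega : 1 ≤ q)]]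
    · exact h0
    · obtain ⟨k, rfl⟩ : ∃ k, u = v + (k + 1) := ⟨u - v - 1, by omega⟩
      have hk : p ^ (k + 1) < q := by
        rw [hn, pow_add, mul_comm] at hu
        exact Nat.lt_of_mul_lt_mul_right hu
      rcases hq with rfl | hq
      · exact absurd hk (not_lt.2 (Nat.le_self_pow (Nat.succ_ne_zero k) _))
      · have ht : ¬ p ∣ q - p ^ (k + 1) := fun hd => hq (by
          have := Nat.dvd_add hd (dvd_pow_self p k.succ_ne_zero)
          rwa [Nat.sub_add_cancel hk.le] at this)
        have he : n - p ^ (v + (k + 1)) = (q - p ^ (k + 1)) * p ^ v := by rw [hn, Nat.sub_mul, ← pow_add, add_comm v]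
        have hlt : (q - p ^ (k + 1)) * p ^ v < n := by rw [← he]; have := hpos (v + (k + 1)); omega
        rw [hF.coeff_comm, he]
        have := hA v _ ht hlt h0
        rwa [show n - (q - p ^ (k + 1)) * p ^ v = p ^ (v + (k + 1)) by omega] at this
  obtain ⟨u, t, ht, rfl⟩ := Nat.exists_eq_pow_mul_and_not_dvd (show i ≠ 0 by omega) p hp.out.ne_one
  rw [mul_comm] at hin ⊢
  exact hA u t ht hin (hP u (lt_of_le_of_lt (Nat.le_mul_of_pos_left _ (Nat.pos_of_ne_zero fun h => ht (by rw [h]; exact dvd_zero p))) hin))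

/-- Classification of symmetric cocycles; the coefficients stay in any ideal containing those of `F`. -/
theorem IsSymmCocycle.exists_decomp {F : MvPolynomial (Fin 2) A} (hF : IsSymmCocycle F) :
    ∃ (G : Polynomial A) (N : ℕ) (r : ℕ → A),
      F = addDefect G + ∑ i ∈ Finset.range N, C (r i) * wittTerm p i ∧
      ∀ I : Ideal A, (∀ d, coeff d F ∈ I) → (∀ n, G.coeff n ∈ I) ∧ ∀ i, r i ∈ I := by
  classical
  set N := F.totalDegree + 1 with hN
  have hbig : ∀ a b, N ≤ a + b → coeff (pr a b) F = 0 := by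
    intro a b hab
    by_contra h
    have := le_totalDegree (mem_support_iff.2 h)
    rw [Finsupp.sum_fintype _ _ (fun _ => rfl), Fin.sum_univ_two, pr_zero, pr_one] at this
    omega
  let v : ℕ → ℕ := fun n => padicValNat p n
  let g : ℕ → A := fun n =>
    if n = 0 then -coeff (pr 0 0) F
    else if n / p ^ v n < 2 then 0
    else coeff (pr (p ^ v n) (n - p ^ v n)) F * Ring.inverse ((n / p ^ v n : ℕ) : A)
  let G : Polynomial A := ∑ n ∈ Finset.range N, Polynomial.C (g n) * Polynomial.X ^ n
  let r : ℕ → A := fun i => coeff (pr (p ^ i) ((p - 1) * p ^ i)) F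
  have hG : ∀ n, G.coeff n = if n < N then g n else 0 := fun n => by simp [G]
  refine ⟨G, N, r, ?_, fun I hI => ⟨fun n => ?_, fun i => hI _⟩⟩
  · set F' : MvPolynomial (Fin 2) A := F + C (-1) * (addDefect G + ∑ i ∈ Finset.range N, C (r i) * wittTerm p i) with hF'def
    suffices hz : F' = 0 by
      have e : F + C (-1) * (addDefect G + ∑ i ∈ Finset.range N, C (r i) * wittTerm p i) = 0 := hz
      rw [map_neg, map_one] at e
      linear_combination e
    have hF' : IsSymmCocycle F' := hF.add (((isSymmCocycle_addDefect G).add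
      (IsSymmCocycle.sum _ _ fun i _ => (isSymmCocycle_wittTerm p i).C_mul (r i))).C_mul (-1))
    have hc : ∀ a b, coeff (pr a b) F' = coeff (pr a b) F - coeff (pr a b) (addDefect G) -
        ∑ i ∈ Finset.range N, r i * coeff (pr a b) (wittTerm p i : MvPolynomial (Fin 2) A) := by
      intro a b
      simp only [hF'def, coeff_add, coeff_C_mul, coeff_sum]
      ring
    refine mvPolynomial_ext_pr fun a b => ?_
    rw [coeff_zero]
    rcases Nat.eq_zero_or_pos a with rfl | ha
    · rcases Nat.eq_zero_or_pos b with rfl | hb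
      · have hw : ∀ i, coeff (pr 0 0) (wittTerm p i : MvPolynomial (Fin 2) A) = 0 := fun i => by
          rw [coeff_wittTerm]
          refine Finset.sum_eq_zero fun j hj => if_neg fun h => ?_
          rw [Finset.mem_Ioo] at hj
          exact Nat.mul_ne_zero (by omega) (pow_ne_zero i hp.out.ne_zero) h.1
        rw [hc, coeff_addDefect]
        simp [hw, hG, g, hN]
      · rw [hF'.coeff_comm]; exact hF'.coeff_edge hb.ne'
    rcases Nat.eq_zero_or_pos b with rfl | hb
    · exact hF'.coeff_edge ha.ne'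
    obtain ⟨n, hn⟩ : ∃ n, a + b = n := ⟨_, rfl⟩
    obtain ⟨v', q', hq', hnq⟩ := Nat.exists_eq_pow_mul_and_not_dvd (show n ≠ 0 by omega) p hp.out.ne_one
    obtain ⟨w, q, hq2, hq, hnw⟩ : ∃ w q, 2 ≤ q ∧ (q = p ∨ ¬ p ∣ q) ∧ n = q * p ^ w := by
      rcases Nat.lt_or_ge q' 2 with h | h
      · have hq1 : q' = 1 := by
          rcases Nat.eq_zero_or_pos q' with rfl | _
          · exact absurd (dvd_zero p) hq'
          · omega
        rw [hq1, mul_one] at hnq
        cases v' with
        | zero => simp at hnq; omega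
        | succ w => exact ⟨w, p, hp.out.two_le, Or.inl rfl, by rw [hnq, pow_succ']⟩
      · exact ⟨v', q', h, Or.inr hq', by rw [hnq, mul_comm]⟩
    obtain rfl : b = n - a := by omega
    refine hF'.coeff_eq_zero_of_normalised p hnw hq2 hq ?_ ha (by omega)
    have hnw' : n - p ^ w = (q - 1) * p ^ w := by rw [hnw, Nat.sub_mul, one_mul]
    have hwn : p ^ w < n := by rw [hnw]; exact lt_mul_left (pow_pos hp.out.pos w) hq2
    have hwp := pow_pos hp.out.pos w
    rw [hc, coeff_addDefect, if_neg (by omega), if_neg (by omega), sub_zero, sub_zero, hnw']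
    simp only [coeff_wittTerm_pow p _ w q hq (by omega : 1 ≤ q), mul_ite, mul_one, mul_zero]
    rw [show p ^ w + (q - 1) * p ^ w = q * p ^ w by rw [add_comm, ← Nat.succ_mul, Nat.succ_eq_add_one, Nat.sub_add_cancel (by omega : 1 ≤ q)],
      choose_mul_pow_pow p A, hG]
    by_cases hqp : q = p
    · subst q
      simp only [CharP.cast_eq_zero, zero_mul, sub_zero, true_and, Finset.sum_ite_eq', Finset.mem_range]
      split_ifs with hwN
      · simp [r]
      · rw [sub_zero]
        refine hbig _ _ ?_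
        have := Nat.lt_pow_self (n := w) hp.out.one_lt
        omega
    · have hq' := hq.resolve_left hqp
      simp only [hqp, false_and, if_false, Finset.sum_const_zero, sub_zero]
      split_ifs with hnN
      · have hv : v (q * p ^ w) = w := by
          simp only [v]
          rw [padicValNat.mul (by omega) (pow_ne_zero _ hp.out.ne_zero), padicValNat.eq_zero_of_not_dvd hq', padicValNat.prime_pow, zero_add]
        have hu : IsUnit (q : A) := (CharP.isUnit_natCast_iff hp.out).2 hq'
        simp only [g, hv, Nat.mul_div_cancel _ hwp]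
        rw [if_neg (Nat.mul_ne_zero (by omega) hwp.ne'), if_neg (by omega), show q * p ^ w - p ^ w = (q - 1) * p ^ w by rw [Nat.sub_mul, one_mul],
          mul_comm (coeff _ F), ← mul_assoc, Ring.mul_inverse_cancel _ hu, one_mul, sub_self]
      · rw [mul_zero, sub_zero]
        exact hbig _ _ (by omega)
  · rw [hG]
    split_ifs
    · simp only [g]
      split_ifs
      · exact I.neg_mem (hI _)
      · exact I.zero_mem
      · exact I.mul_mem_right _ (hI _)
    · exact I.zero_mem

end CharP

end Groth.Agent.GaLib
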