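import Groth.Agent.GaLib.ArtinHasse
import Mathlib.Algebra.MvPolynomial.Nilpotent
import Mathlib.RingTheory.Noetherian.Nilpotent
import Mathlib.RingTheory.Finiteness.Basic

/-!
# Splitting multiplicative cocycles when Frobenius is surjective
-/

set_option maxHeartbeats 400000

universe u

open MvPolynomial

namespace Groth.Agent.GaLib

variable {R : Type u} [CommRing R] (p : ℕ) [hp : Fact p.Prime] [CharP R p]

/-- `f(X₀+X₁) = f(X₀) f(X₁) (1+F)` modulo an ideal of coefficients. -/
def DefectMod (I : Ideal R) (f : Polynomial R) (F : MvPolynomial (Fin 2) R) : Prop :=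
  Polynomial.aeval (X 0 + X 1 : MvPolynomial (Fin 2) R) f -
      Polynomial.aeval (X 0 : MvPolynomial (Fin 2) R) f * Polynomial.aeval (X 1 : MvPolynomial (Fin 2) R) f * (1 + F) ∈
    I.map (C : R →+* MvPolynomial (Fin 2) R)

theorem defectMod_one (I : Ideal R) : DefectMod I (1 : Polynomial R) 0 := by simp [DefectMod]

theorem DefectMod.mul {I : Ideal R} {f g : Polynomial R} {F G : MvPolynomial (Fin 2) R} (hf : DefectMod I f F)
    (hg : DefectMod I g G) (hFG : F * G ∈ I.map (C : R →+* MvPolynomial (Fin 2) R)) :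
    DefectMod I (f * g) (F + G) := by
  unfold DefectMod at hf hg ⊢
  rw [map_mul, map_mul, map_mul]
  set K := I.map (C : R →+* MvPolynomial (Fin 2) R)
  rw [← Ideal.Quotient.eq] at hf hg ⊢
  rw [← Ideal.Quotient.eq_zero_iff_mem] at hFG
  simp only [map_mul, map_add, map_one] at hf hg hFG ⊢
  rw [hf, hg]
  linear_combination (Ideal.Quotient.mk K (Polynomial.aeval (X 0 : MvPolynomial (Fin 2) R) f) *
    Ideal.Quotient.mk K (Polynomial.aeval (X 1 : MvPolynomial (Fin 2) R) f) *
    Ideal.Quotient.mk K (Polynomial.aeval (X 0 : MvPolynomial (Fin 2) R) g) *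
    Ideal.Quotient.mk K (Polynomial.aeval (X 1 : MvPolynomial (Fin 2) R) g)) * hFG

theorem DefectMod.of_eq_expand {I : Ideal R} {f : Polynomial R} {F : MvPolynomial (Fin 2) R} (hf : DefectMod I f F) (i : ℕ) :
    DefectMod I (Polynomial.expand R (p ^ i) f) (aeval ![X 0 ^ p ^ i, X 1 ^ p ^ i] F) := by
  unfold DefectMod at hf ⊢
  have hmap := Ideal.mem_map_of_mem (aeval (R := R) ![(X 0 : MvPolynomial (Fin 2) R) ^ p ^ i, X 1 ^ p ^ i]) hf
  rw [Ideal.map, Ideal.span] at hmap
  have hle : (I.map (C : R →+* MvPolynomial (Fin 2) R)).map (aeval (R := R) ![(X 0 : MvPolynomial (Fin 2) R) ^ p ^ i, X 1 ^ p ^ i]) ≤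
      I.map (C : R →+* MvPolynomial (Fin 2) R) := by
    rw [Ideal.map_le_iff_le_comap, Ideal.map_le_iff_le_comap]
    intro r hr
    simp only [Ideal.mem_comap, aeval_C, algebraMap_eq]
    exact Ideal.mem_map_of_mem _ hr
  have := hle hmap
  simp only [map_sub, map_mul, map_add, map_one, ← Polynomial.aeval_algHom_apply, aeval_X, Matrix.cons_val_zero, Matrix.cons_val_one] at this
  simpa only [Polynomial.expand_aeval, add_pow_char_pow] using this

/-- Multiplicative symmetric cocycles. -/
def IsMulCocycle (h : MvPolynomial (Fin 2) R) : Prop :=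
  aeval ![(X 1 : MvPolynomial (Fin 2) R), X 0] h = h ∧
    aeval ![(X 1 : MvPolynomial (Fin 3) R), X 2] h * aeval ![X 0, X 1 + X 2] h =
      aeval ![X 0 + X 1, X 2] h * aeval ![X 0, X 1] h

omit [CharP R p] hp in
theorem mem_map_C_aeval {n : ℕ} {I : Ideal R} {F : MvPolynomial (Fin 2) R} (hF : F ∈ I.map (C : R →+* MvPolynomial (Fin 2) R))
    (v : Fin 2 → MvPolynomial (Fin n) R) : aeval v F ∈ I.map (C : R →+* MvPolynomial (Fin n) R) := by
  have hle : (I.map (C : R →+* MvPolynomial (Fin 2) R)).map (aeval (R := R) v) ≤ I.map (C : R →+* MvPolynomial (Fin n) R) := by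
    rw [Ideal.map_le_iff_le_comap, Ideal.map_le_iff_le_comap]
    intro r hr
    simp only [Ideal.mem_comap, aeval_C, algebraMap_eq]
    exact Ideal.mem_map_of_mem _ hr
  exact hle (Ideal.mem_map_of_mem _ hF)

/-- One step of the successive approximation. -/
theorem exists_step (hF : Function.Surjective (frobenius R p)) {I : Ideal R} (hI : ∀ x ∈ I, IsNilpotent x)
    {h : MvPolynomial (Fin 2) R} (hh : IsMulCocycle h) (hI' : h - 1 ∈ I.map (C : R →+* MvPolynomial (Fin 2) R)) :
    ∃ f : Polynomial R, IsUnit f ∧ DefectMod (I ^ 2) f (h - 1) := by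
  classical
  set F := h - 1 with hFdef
  have hsq : ∀ (n : ℕ) (a b : MvPolynomial (Fin n) R), a ∈ I.map (C : R →+* MvPolynomial (Fin n) R) →
      b ∈ I.map (C : R →+* MvPolynomial (Fin n) R) → a * b ∈ (I ^ 2).map (C : R →+* MvPolynomial (Fin n) R) := by
    intro n a b ha hb
    rw [Ideal.map_pow, sq]; exact Ideal.mul_mem_mul ha hb
  -- pass to `R / I ^ 2`
  by_cases htop : I ^ 2 = ⊤
  · exact ⟨1, isUnit_one, by simp [DefectMod, htop, Ideal.map_top]⟩
  let π := Ideal.Quotient.mk (I ^ 2)
  have : Nontrivial (R ⧸ I ^ 2) := Ideal.Quotient.nontrivial_iff.2 htop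
  have : CharP (R ⧸ I ^ 2) p := by
    refine (CharP.charP_iff_prime_eq_zero hp.out).2 ?_
    rw [← map_natCast π, CharP.cast_eq_zero, map_zero]
  have hcoc : IsSymmCocycle (MvPolynomial.map π F) := by
    have key : ∀ (n : ℕ) (v : Fin 2 → MvPolynomial (Fin n) R) (G : MvPolynomial (Fin 2) R),
        MvPolynomial.map π (aeval v G) = aeval (fun k => MvPolynomial.map π (v k)) (MvPolynomial.map π G) := by
      intro n v G
      induction G using MvPolynomial.induction_on with
      | C a => simp [algebraMap_eq]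
      | add P Q hP hQ => simp only [map_add, hP, hQ]
      | mul_X P k hP => simp only [map_mul, hP, aeval_X, map_X]
    have ev : ∀ (n : ℕ) (x y : MvPolynomial (Fin n) R), (fun k => MvPolynomial.map π (![x, y] k)) = ![MvPolynomial.map π x, MvPolynomial.map π y] :=
      fun n x y => by funext k; fin_cases k <;> rfl
    have hker : ∀ (n : ℕ) (a : MvPolynomial (Fin n) R), a ∈ (I ^ 2).map (C : R →+* MvPolynomial (Fin n) R) → MvPolynomial.map π a = 0 := by
      intro n a ha
      ext d
      rw [coeff_map, coeff_zero, Ideal.Quotient.eq_zero_iff_mem]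
      exact mem_map_C_iff.1 ha d
    refine ⟨?_, ?_⟩
    · have := congrArg (MvPolynomial.map π) (show aeval ![(X 1 : MvPolynomial (Fin 2) R), X 0] F = F by
        rw [hFdef, map_sub, hh.1, map_one])
      rwa [key, ev, map_X, map_X] at this
    · have e : aeval ![X 0, X 1 + X 2] F + aeval ![X 1, X 2] F - aeval ![X 0 + X 1, X 2] F - aeval ![X 0, X 1] F =
          (aeval ![X 0 + X 1, X 2] F * aeval ![X 0, X 1] F - aeval ![X 1, X 2] F * aeval ![X 0, X 1 + X 2] F : MvPolynomial (Fin 3) R) := by
        simp only [hFdef, map_sub, map_one]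
        linear_combination hh.2
      have e' := congrArg (MvPolynomial.map π) e
      rw [hker 3 _ (sub_mem (hsq 3 _ _ (mem_map_C_aeval hI' _) (mem_map_C_aeval hI' _))
        (hsq 3 _ _ (mem_map_C_aeval hI' _) (mem_map_C_aeval hI' _)))] at e'
      simpa only [map_sub, map_add, key, ev, map_X] using e'
  obtain ⟨G', N, r', hdec, hmem⟩ := hcoc.exists_decomp p
  obtain ⟨hG', hr'⟩ := hmem (I.map π) fun d => by
    rw [coeff_map]; exact Ideal.mem_map_of_mem _ (mem_map_C_iff.1 hI' d)
  choose g hgI hg using fun n => (Ideal.mem_map_iff_of_surjective π Ideal.Quotient.mk_surjective).1 (hG' n)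
  choose r hrI hr using fun i => (Ideal.mem_map_iff_of_surjective π Ideal.Quotient.mk_surjective).1 (hr' i)
  let G : Polynomial R := ∑ n ∈ G'.support, Polynomial.C (g n) * Polynomial.X ^ n
  have hGI : ∀ n, G.coeff n ∈ I := fun n => by
    simp only [G, Polynomial.finsetSum_coeff, Polynomial.coeff_C_mul_X_pow]
    refine I.sum_mem fun m _ => ?_
    split_ifs
    · exact hgI m
    · exact I.zero_mem
  have hGmap : G.map π = G' := by
    ext n
    simp only [G, Polynomial.coeff_map, Polynomial.finsetSum_coeff, Polynomial.coeff_C_mul_X_pow, Finset.sum_ite_eq, apply_ite π, map_zero, hg]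
    split_ifs with hn
    · rfl
    · exact (Polynomial.notMem_support_iff.1 hn).symm
  set K := (I ^ 2).map (C : R →+* MvPolynomial (Fin 2) R) with hK
  have hmemD : ∀ v : MvPolynomial (Fin 2) R, Polynomial.aeval v G ∈ I.map (C : R →+* MvPolynomial (Fin 2) R) := fun v => by
    rw [Polynomial.aeval_eq_sum_range]
    refine Ideal.sum_mem _ fun n _ => ?_
    rw [Algebra.smul_def, algebraMap_eq]
    exact Ideal.mul_mem_right _ _ (Ideal.mem_map_of_mem _ (hGI n))
  have hFeq : F - (addDefect G + ∑ i ∈ Finset.range N, C (r i) * wittTerm p i) ∈ K := by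
    rw [hK, mem_map_C_iff]
    intro d
    rw [← Ideal.Quotient.eq_zero_iff_mem]
    have hmd : MvPolynomial.map π (addDefect G) = addDefect G' := by
      rw [← hGmap]
      refine mvPolynomial_ext_pr fun a b => ?_
      simp only [coeff_map, coeff_addDefect, map_sub, map_mul, map_natCast, apply_ite π, map_zero, Polynomial.coeff_map]
    have hmw : ∀ i, MvPolynomial.map π (wittTerm p i : MvPolynomial (Fin 2) R) = wittTerm p i := fun i => by
      refine mvPolynomial_ext_pr fun a b => ?_
      simp only [coeff_map, coeff_wittTerm, map_sum, apply_ite π, map_zero, map_natCast]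
    have := congrArg (MvPolynomial.coeff d) hdec
    rw [coeff_map] at this
    show π _ = 0
    rw [coeff_sub, map_sub, this, ← coeff_map π, sub_eq_zero, map_add, map_sum, hmd]
    simp only [map_mul, map_C, hmw, hr]
  -- the factor coming from `G`
  have hone : DefectMod (I ^ 2) (1 + G) (addDefect G) := by
    unfold DefectMod
    have e : Polynomial.aeval (X 0 + X 1 : MvPolynomial (Fin 2) R) (1 + G) -
        Polynomial.aeval (X 0 : MvPolynomial (Fin 2) R) (1 + G) * Polynomial.aeval (X 1 : MvPolynomial (Fin 2) R) (1 + G) * (1 + addDefect G) =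
        -(Polynomial.aeval (X 0 : MvPolynomial (Fin 2) R) G * Polynomial.aeval (X 1 : MvPolynomial (Fin 2) R) G) * (1 + addDefect G)
        - (Polynomial.aeval (X 0 : MvPolynomial (Fin 2) R) G + Polynomial.aeval (X 1 : MvPolynomial (Fin 2) R) G) * addDefect G := by
      simp only [addDefect, map_add, map_one]; ring
    rw [e]
    exact sub_mem (Ideal.mul_mem_right _ _ (neg_mem (hsq 2 _ _ (hmemD _) (hmemD _))))
      (hsq 2 _ _ (add_mem (hmemD _) (hmemD _)) (sub_mem (sub_mem (hmemD _) (hmemD _)) (hmemD _)))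
  have hGu : IsUnit (1 + G) := by
    refine IsNilpotent.isUnit_one_add (Polynomial.isNilpotent_iff.2 fun n => hI _ (hGI n))
  -- the factors coming from the Witt terms
  have hfac : ∀ i, ∃ f : Polynomial R, IsUnit f ∧ DefectMod (I ^ 2) f (C (r i) * wittTerm p i) := by
    intro i
    obtain ⟨s, hs⟩ := hF (r i)
    rw [frobenius_def] at hs
    obtain ⟨f, hf, hf'⟩ := exists_unit_defect p (IsNilpotent.of_pow (hs.symm ▸ hI _ (hrI i) : IsNilpotent (s ^ p)))
    refine ⟨Polynomial.expand R (p ^ i) f, hf.map _, ?_⟩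
    have h0 : DefectMod (I ^ 2) f (C (r i) * wittTerm p 0) := by
      refine Ideal.map_mono ?_ (hs ▸ hf')
      rw [Ideal.span_singleton_le_iff_mem, mul_comm 2 p, pow_mul, hs, sq, sq]
      exact Ideal.mul_mem_mul (hrI i) (hrI i)
    have := h0.of_eq_expand p i
    rw [map_mul, aeval_C, algebraMap_eq, show aeval ![(X 0 : MvPolynomial (Fin 2) R) ^ p ^ i, X 1 ^ p ^ i] (wittTerm p 0 : MvPolynomial (Fin 2) R) = wittTerm p i by
      simp [wittTerm, map_sum, aeval_X]] at this
    exact this
  choose f hfu hfd using hfac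
  have hprod : ∀ M, DefectMod (I ^ 2) ((1 + G) * ∏ i ∈ Finset.range M, f i)
      (addDefect G + ∑ i ∈ Finset.range M, C (r i) * wittTerm p i) := by
    intro M
    induction M with
    | zero => simpa using hone
    | succ M ih =>
      rw [Finset.prod_range_succ, ← mul_assoc, Finset.sum_range_succ, ← add_assoc]
      refine ih.mul (hfd M) (hsq 2 _ _ (add_mem (sub_mem (sub_mem (hmemD _) (hmemD _)) (hmemD _)) (Ideal.sum_mem _ fun i _ => ?_)) ?_)
      · exact Ideal.mul_mem_right _ _ (Ideal.mem_map_of_mem _ (hrI i))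
      · exact Ideal.mul_mem_right _ _ (Ideal.mem_map_of_mem _ (hrI M))
  refine ⟨(1 + G) * ∏ i ∈ Finset.range N, f i, hGu.mul (IsUnit.prod_iff.2 fun i _ => hfu i), ?_⟩
  have := hprod N
  unfold DefectMod at this ⊢
  rw [← hK] at this ⊢
  have e := Ideal.mul_mem_left K (Polynomial.aeval (X 0 : MvPolynomial (Fin 2) R) ((1 + G) * ∏ i ∈ Finset.range N, f i) *
      Polynomial.aeval (X 1 : MvPolynomial (Fin 2) R) ((1 + G) * ∏ i ∈ Finset.range N, f i)) hFeq
  have := sub_mem this e
  convert this using 1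
  ring

/-- Splitting by successive approximation. -/
theorem exists_splitting (hF : Function.Surjective (frobenius R p)) (k : ℕ) :
    ∀ (I : Ideal R), I ^ (2 ^ k) = ⊥ → ∀ h : MvPolynomial (Fin 2) R, IsMulCocycle h →
      h - 1 ∈ I.map (C : R →+* MvPolynomial (Fin 2) R) →
      ∃ f : Polynomial R, IsUnit f ∧ Polynomial.aeval (X 0 + X 1 : MvPolynomial (Fin 2) R) f =
        Polynomial.aeval (X 0 : MvPolynomial (Fin 2) R) f * Polynomial.aeval (X 1 : MvPolynomial (Fin 2) R) f * h := by
  induction k with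
  | zero =>
    intro I hI h _ hmem
    rw [pow_zero, pow_one] at hI
    rw [hI, Ideal.map_bot, Ideal.mem_bot, sub_eq_zero] at hmem
    exact ⟨1, isUnit_one, by simp [hmem]⟩
  | succ k ih =>
    intro I hI h hh hmem
    have hnil : ∀ x ∈ I, IsNilpotent x := fun x hx => ⟨2 ^ (k + 1), by
      have := Ideal.pow_mem_pow hx (2 ^ (k + 1))
      rwa [hI, Ideal.mem_bot] at this⟩
    obtain ⟨f, hfu, hf⟩ := exists_step p hF hnil hh hmem
    obtain ⟨u, rfl⟩ := hfu
    set h' := h * Polynomial.aeval (X 0 : MvPolynomial (Fin 2) R) (u : Polynomial R) * Polynomial.aeval (X 1 : MvPolynomial (Fin 2) R) (u : Polynomial R) *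
      Polynomial.aeval (X 0 + X 1 : MvPolynomial (Fin 2) R) (↑u⁻¹ : Polynomial R) with hh'
    have hu : ∀ (n : ℕ) (v : MvPolynomial (Fin n) R), Polynomial.aeval v (u : Polynomial R) * Polynomial.aeval v (↑u⁻¹ : Polynomial R) = 1 := fun n v => by
      rw [← map_mul, Units.mul_inv, map_one]
    have hh'c : IsMulCocycle h' := by
      refine ⟨?_, ?_⟩
      · simp only [hh', map_mul, hh.1, ← Polynomial.aeval_algHom_apply, aeval_X, map_add, Matrix.cons_val_zero, Matrix.cons_val_one]
        rw [add_comm (X 1 : MvPolynomial (Fin 2) R)]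
        ring
      · simp only [hh', map_mul, ← Polynomial.aeval_algHom_apply, aeval_X, map_add, Matrix.cons_val_zero, Matrix.cons_val_one]
        rw [← add_assoc]
        linear_combination
          (Polynomial.aeval (X 1 : MvPolynomial (Fin 3) R) (u : Polynomial R) * Polynomial.aeval (X 2 : MvPolynomial (Fin 3) R) (u : Polynomial R) *
           Polynomial.aeval (X 0 : MvPolynomial (Fin 3) R) (u : Polynomial R) * Polynomial.aeval (X 0 + X 1 + X 2 : MvPolynomial (Fin 3) R) (↑u⁻¹ : Polynomial R)) * hh.2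
          + (aeval ![(X 1 : MvPolynomial (Fin 3) R), X 2] h * aeval ![X 0, X 1 + X 2] h *
             Polynomial.aeval (X 1 : MvPolynomial (Fin 3) R) (u : Polynomial R) * Polynomial.aeval (X 2 : MvPolynomial (Fin 3) R) (u : Polynomial R) *
             Polynomial.aeval (X 0 : MvPolynomial (Fin 3) R) (u : Polynomial R) * Polynomial.aeval (X 0 + X 1 + X 2 : MvPolynomial (Fin 3) R) (↑u⁻¹ : Polynomial R)) * hu 3 (X 1 + X 2)
          - (aeval ![(X 0 + X 1 : MvPolynomial (Fin 3) R), X 2] h * aeval ![X 0, X 1] h *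
             Polynomial.aeval (X 1 : MvPolynomial (Fin 3) R) (u : Polynomial R) * Polynomial.aeval (X 2 : MvPolynomial (Fin 3) R) (u : Polynomial R) *
             Polynomial.aeval (X 0 : MvPolynomial (Fin 3) R) (u : Polynomial R) * Polynomial.aeval (X 0 + X 1 + X 2 : MvPolynomial (Fin 3) R) (↑u⁻¹ : Polynomial R)) * hu 3 (X 0 + X 1)
    have hh'1 : h' - 1 ∈ (I ^ 2).map (C : R →+* MvPolynomial (Fin 2) R) := by
      have := Ideal.mul_mem_right (Polynomial.aeval (X 0 + X 1 : MvPolynomial (Fin 2) R) (↑u⁻¹ : Polynomial R)) _ hf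
      have := neg_mem this
      convert this using 1
      rw [hh']
      linear_combination hu 2 (X 0 + X 1)
    obtain ⟨g, hgu, hg⟩ := ih (I ^ 2) (by rw [← pow_mul, ← pow_succ', hI]) h' hh'c hh'1
    refine ⟨(u : Polynomial R) * g, u.isUnit.mul hgu, ?_⟩
    rw [map_mul, map_mul, map_mul, hg, hh']
    linear_combination (Polynomial.aeval (X 0 : MvPolynomial (Fin 2) R) (u : Polynomial R) * Polynomial.aeval (X 1 : MvPolynomial (Fin 2) R) (u : Polynomial R) *
      Polynomial.aeval (X 0 : MvPolynomial (Fin 2) R) g * Polynomial.aeval (X 1 : MvPolynomial (Fin 2) R) g * h) * hu 2 (X 0 + X 1)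

end Groth.Agent.GaLib
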